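import Groth.Agent.QGor.K66.StalkOff

/-!
# Flatness at a point from flatness off a closed subset

* `flatAt_stalk`: flatness over the base at a generization, in terms of the stalk at the point;
* `isFlatOverAt_of_off`: `M` is flat over the base at `x` if it is flat off the complement of `U` and the
  fibre stalk has depth at least one along the complement of `U`;
* `le_idealDepth_fibStalk_iff`: the depth of the fibre stalk, through the points of the fibre.
-/

set_option autoImplicit false
set_option linter.style.haveILetI false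
universe u

open AlgebraicGeometry CategoryTheory Limits IsLocalRing TopologicalSpace

namespace K66.FlatOff

open Groth.Agent Groth.Agent.CycB.LocQuot Groth.Agent.CycB.StalkLoc K66.StalkOff K970.RelSk1
  Groth.Agent.Flat2D.FiberStalk Groth.Agent.Fdesc.PullbackStalk

section Flat

variable {X S : Scheme.{u}} (f : X ⟶ S)

/-- Flatness over the base at a generization, in terms of the stalk at the point. -/
theorem flatAt_stalk (M : X.Modules) (hM : Coh.IsQCoh M) {x ξ : X} (h : ξ ⤳ x)
    (hξ : FlatMod.IsFlatOverAt f M ξ) :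
    letI : Algebra (S.presheaf.stalk (f x)) (X.presheaf.stalk x) := (f.stalkMap x).hom.toAlgebra
    letI := FlatMod.moduleStalkOver f M x
    haveI : IsScalarTower (S.presheaf.stalk (f x)) (X.presheaf.stalk x) (M.presheaf.stalk x) :=
      IsScalarTower.of_algebraMap_smul fun r m => rfl
    FlatCA.FlatAt (S.presheaf.stalk (f x)) (primeOf h).asIdeal (M.presheaf.stalk x) := by
  letI iA : Algebra (S.presheaf.stalk (f x)) (X.presheaf.stalk x) := (f.stalkMap x).hom.toAlgebra
  letI iM := FlatMod.moduleStalkOver f M x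
  haveI : IsScalarTower (S.presheaf.stalk (f x)) (X.presheaf.stalk x) (M.presheaf.stalk x) :=
      IsScalarTower.of_algebraMap_smul fun r m => rfl
  have h' : f ξ ⤳ f x := h.map f.continuous
  letI j1 := FlatMod.moduleStalkOver f M ξ
  letI j2 := specAlg h'
  haveI j3 := isLocalization_stalkSpecializes h'
  letI j4 : Module (S.presheaf.stalk (f x)) (M.presheaf.stalk ξ) :=
    Module.compHom _ (S.presheaf.stalkSpecializes h').hom
  haveI j5 : IsScalarTower (S.presheaf.stalk (f x)) (S.presheaf.stalk (f ξ)) (M.presheaf.stalk ξ) :=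
    IsScalarTower.of_algebraMap_smul fun r m => rfl
  haveI j6 : Module.Flat (S.presheaf.stalk (f ξ)) (M.presheaf.stalk ξ) := hξ
  haveI j7 : Module.Flat (S.presheaf.stalk (f x)) (S.presheaf.stalk (f ξ)) :=
    IsLocalization.flat _ (RingHom.ker (Cyc.specMap (f x) (f ξ) h')).primeCompl
  haveI j8 : Module.Flat (S.presheaf.stalk (f x)) (M.presheaf.stalk ξ) :=
    Module.Flat.trans (S.presheaf.stalk (f x)) (S.presheaf.stalk (f ξ)) (M.presheaf.stalk ξ)
  obtain ⟨σ, e, hσ, -, he⟩ := exists_loc_equiv M hM h
  change Module.Flat (S.presheaf.stalk (f x))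
    (LocalizedModule (primeOf h).asIdeal.primeCompl (M.presheaf.stalk x))
  refine Ega3B.FlatRestrict.flat_of_semilinear (RingEquiv.refl _) e.symm (fun a m => ?_) j8
  apply e.injective
  rw [AddEquiv.apply_symm_apply]
  have h1 : ((RingEquiv.refl (S.presheaf.stalk (f x))) a •
      e.symm m : LocalizedModule (primeOf h).asIdeal.primeCompl (M.presheaf.stalk x)) =
      algebraMap (X.presheaf.stalk x) (Localization.AtPrime (primeOf h).asIdeal)
        ((f.stalkMap x).hom a) • e.symm m := by
    rw [algebraMap_smul]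
    exact (algebraMap_smul (X.presheaf.stalk x) a (e.symm m)).symm
  rw [h1, he, AddEquiv.apply_symm_apply, hσ]
  change ((f.stalkMap ξ).hom ((S.presheaf.stalkSpecializes h').hom a)) • m = _
  congr 1
  exact (Scheme.Hom.stalkSpecializes_stalkMap_apply f ξ x h a)

variable [IsLocallyNoetherian X] [IsLocallyNoetherian S]

/-- Flatness at `x` from flatness off the complement of `U` and depth of the fibre stalk. -/
theorem isFlatOverAt_of_off (M : X.Modules) (hM : Coh.IsCoh M) (U : X.Opens) (x : X)
    (hU : ∀ z ∈ U, z ⤳ x → FlatMod.IsFlatOverAt f M z)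
    (h1 : 1 ≤ LocCoh.idealDepth (offIdeal U x) (FibStalk f M x)) : FlatMod.IsFlatOverAt f M x := by
  letI : Algebra (S.presheaf.stalk (f x)) (X.presheaf.stalk x) := (f.stalkMap x).hom.toAlgebra
  letI := FlatMod.moduleStalkOver f M x
  haveI : IsScalarTower (S.presheaf.stalk (f x)) (X.presheaf.stalk x) (M.presheaf.stalk x) :=
      IsScalarTower.of_algebraMap_smul fun r m => rfl
  haveI : Module.Finite (X.presheaf.stalk x) (M.presheaf.stalk x) := Divis.StalkMod.finite_stalk hM x
  haveI : IsLocalHom (algebraMap (S.presheaf.stalk (f x)) (X.presheaf.stalk x)) :=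
    inferInstanceAs (IsLocalHom (f.stalkMap x).hom)
  refine K966.FibFlat.flat_of_one_le_idealDepth (A := S.presheaf.stalk (f x))
    (B := X.presheaf.stalk x) (offIdeal U x) (M.presheaf.stalk x) (fun P hP => ?_) h1
  rw [offIdeal_le_iff, not_not] at hP
  have h2 := flatAt_stalk f M hM.1 (ptOf_specializes P) (hU _ hP (ptOf_specializes P))
  rw [primeOf_ptOf] at h2
  exact h2

end Flat

section Fib

variable {X S : Scheme.{u}} (f : X ⟶ S)

/-- The primes of a stalk of the source and of the target. -/
theorem comap_primeOf {Y Z : Scheme.{u}} (g : Y ⟶ Z) {x ξ : Y} (h : ξ ⤳ x) :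
    (primeOf h).asIdeal.comap (g.stalkMap x).hom = (primeOf (h.map g.continuous)).asIdeal := by
  have h1 : PrimeSpectrum.comap (g.stalkMap x).hom (primeOf h) = primeOf (h.map g.continuous) := by
    apply fromSpecStalk_injective
    rw [fromSpecStalk_primeOf]
    have h2 := congrArg (fun k : Spec (Y.presheaf.stalk x) ⟶ Z => k (primeOf h))
      (Scheme.SpecMap_stalkMap_fromSpecStalk g (x := x))
    have h3 : (Spec.map (g.stalkMap x) ≫ Z.fromSpecStalk (g x)) (primeOf h) =
      (Y.fromSpecStalk x ≫ g) (primeOf h) := h2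
    rw [Scheme.Hom.comp_apply, Scheme.Hom.comp_apply, fromSpecStalk_primeOf] at h3
    exact h3
  rw [← h1]
  rfl

/-- The depth of a fibre stalk through the points of the fibre. -/
theorem le_idealDepth_fibStalk_iff (F : X.Modules) (U : X.Opens)
    (s : S) (z : f.fiber s) [IsLocallyNoetherian (f.fiber s)]
    (hF : Coh.IsCoh ((Scheme.Modules.pullback (f.fiberι s)).obj F)) (n : ℕ) :
    (n : ℕ∞) ≤ LocCoh.idealDepth (offIdeal U (f.fiberι s z)) (FibStalk f F (f.fiberι s z)) ↔
      ∀ z' : f.fiber s, z' ⤳ z → f.fiberι s z' ∉ U →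
        (n : ℕ∞) ≤ LocCoh.depth ((f.fiber s).presheaf.stalk z')
          (((Scheme.Modules.pullback (f.fiberι s)).obj F).presheaf.stalk z') := by
  letI := stalkAlg (f.fiberι s) z
  letI := FlatMod.moduleStalkOver (f.fiberι s) ((Scheme.Modules.pullback (f.fiberι s)).obj F) z
  haveI := isScalarTower (f.fiberι s) ((Scheme.Modules.pullback (f.fiberι s)).obj F) z
  obtain ⟨e, he⟩ := exists_quot_equiv (can (f.fiberι s) F z) (isBaseChange_can (f.fiberι s) F z)
    (stalkMap_fiberι_surjective f s z) (fibreIdeal f (f.fiberι s z)) (ker_stalkMap_fiberι f s z)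
  have h1 := Ega4A.DepthBasic.idealDepth_congr_of_surjective ((f.fiberι s).stalkMap z).hom
    (stalkMap_fiberι_surjective f s z) (offIdeal U (f.fiberι s z)) (FibStalk f F (f.fiberι s z))
    _ e he
  rw [h1, le_idealDepth_iff _ hF]
  refine forall_congr' fun z' => forall_congr' fun h => ?_
  rw [Ideal.map_le_iff_le_comap, comap_primeOf, offIdeal_le_primeOf_iff]

end Fib

end K66.FlatOff
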