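import Groth.Agent.QGor.K966.FibFlat
import Groth.Agent.S0393

/-!
# The depth of a flat module is at least the depth of its closed fibre

`A → B` a local homomorphism of Noetherian local rings, `J` an ideal of `B`, `M` a finite `B`-module, flat over
`A`: `depth_J (M/mM) ≤ depth_J M`.
-/

set_option autoImplicit false
universe u

open Groth.Agent.Localalg.Depth Groth.Agent.Localalg.Depth2 TensorProduct IsLocalRing
open scoped Pointwise

namespace K66.FlatDepth

variable {A B : Type u} [CommRing A] [CommRing B]
    [IsNoetherianRing B] [IsLocalRing A] [IsLocalRing B] [Algebra A B]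
    [IsLocalHom (algebraMap A B)] (J : Ideal B)

/-- Multiplication by an element which is regular on the closed fibre. -/
theorem regular_of_fib (M : Type u) [AddCommGroup M] [Module B M] [Module A M] [IsScalarTower A B M]
    [Module.Finite B M] [Module.Flat A M] (x : B) (hx : IsSMulRegular (EGA4.FibMod A B M) x) :
    IsSMulRegular M x ∧ Module.Flat A (QuotSMulTop x M) := by
  let u : M →ₗ[B] M := LinearMap.lsmul B M x
  have hu : Function.Injective (LinearMap.lTensor (IsLocalRing.ResidueField A) (u.restrictScalars A)) := by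
    rw [LinearMap.lTensor_inj_iff_rTensor_inj]
    let e := Groth.Agent.S2498.quotEquiv (A := A) (B := B) M (maximalIdeal A)
    have h1 : Function.Injective (AlgebraTensorModule.rTensor A (A ⧸ maximalIdeal A) u) := by
      have h2 : AlgebraTensorModule.rTensor A (A ⧸ maximalIdeal A) u =
          LinearMap.lsmul B (M ⊗[A] (A ⧸ maximalIdeal A)) x := by
        refine TensorProduct.AlgebraTensorModule.ext fun m a => ?_
        simp [u, TensorProduct.smul_tmul']
      rw [h2]
      intro a b hab
      apply e.symm.injective
      apply hx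
      change x • e.symm a = x • e.symm b
      rw [← map_smul, ← map_smul]
      exact congrArg e.symm hab
    exact h1
  obtain ⟨h1, h2⟩ := Groth.Agent.S0393.result (R := A) (S := B) (u.restrictScalars A) hu
  refine ⟨h1, ?_⟩
  let e : (M ⧸ LinearMap.range (u.restrictScalars A)) ≃ₗ[A] QuotSMulTop x M := by
    refine (Submodule.quotEquivOfEq _ ((x • (⊤ : Submodule B M)).restrictScalars A) ?_).trans
      (Submodule.Quotient.restrictScalarsEquiv A (x • (⊤ : Submodule B M)))
    ext m
    simp only [LinearMap.mem_range, Submodule.restrictScalars_mem, Submodule.mem_smul_pointwise_iff_exists,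
      Submodule.mem_top, true_and]
    rfl
  exact Module.Flat.of_linearEquiv e.symm

/-- The depth of the closed fibre bounds the depth. -/
theorem le_idealDepth_of_fib (n : ℕ) : ∀ (M : Type u) [AddCommGroup M] [Module B M] [Module A M]
    [IsScalarTower A B M] [Module.Finite B M] [Module.Flat A M]
    (_ : (n : ℕ∞) ≤ LocCoh.idealDepth J (EGA4.FibMod A B M)), (n : ℕ∞) ≤ LocCoh.idealDepth J M := by
  induction n with
  | zero => intro M _ _ _ _ _ _ _; simp
  | succ n ih =>
    intro M _ _ _ _ _ _ h
    by_cases hJ : J • (⊤ : Submodule B M) = ⊤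
    · rw [idealDepth_eq_top_of_smul_eq_top hJ]; exact le_top
    have hJ1 : J ≠ ⊤ := by
      rintro rfl
      exact hJ (Submodule.top_smul _)
    have hJm : J ≤ maximalIdeal B := IsLocalRing.le_maximalIdeal hJ1
    have hJ2 : J • (⊤ : Submodule B (EGA4.FibMod A B M)) ≠ ⊤ := by
      intro h2
      have h3 : (⊤ : Submodule B (EGA4.FibMod A B M)) ≤ maximalIdeal B • ⊤ := by
        rw [← h2]
        exact (Submodule.smul_mono_left hJm).trans (by rw [h2])
      have h4 : (⊤ : Submodule B (EGA4.FibMod A B M)) = ⊥ :=
        Submodule.eq_bot_of_le_smul_of_le_jacobson_bot (maximalIdeal B) _ Module.Finite.fg_top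
          h3 (IsLocalRing.maximalIdeal_le_jacobson _)
      have h5 : EGA4.mB A B • (⊤ : Submodule B M) = ⊤ := by
        rw [← Submodule.Quotient.subsingleton_iff]
        exact (Submodule.subsingleton_iff B).mp (subsingleton_of_bot_eq_top h4.symm)
      have h6 : (⊤ : Submodule B M) = ⊥ :=
        Submodule.eq_bot_of_le_smul_of_le_jacobson_bot (EGA4.mB A B) _ Module.Finite.fg_top
          h5.ge ((IsLocalRing.map_maximalIdeal_le (algebraMap A B)).trans
            (IsLocalRing.maximalIdeal_le_jacobson _))
      apply hJ
      rw [h6, Submodule.smul_bot]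
    obtain ⟨x, hx, hreg⟩ := (one_le_idealDepth_iff hJ2).mp (le_trans (by exact_mod_cast Nat.succ_le_succ (Nat.zero_le n)) h)
    obtain ⟨h7, h8⟩ := regular_of_fib M x hreg
    rw [natCast_succ_le_idealDepth_iff_quotSMulTop J M x hx h7]
    rw [natCast_succ_le_idealDepth_iff_quotSMulTop J _ x hx hreg] at h
    refine ih (QuotSMulTop x M) ?_
    -- `(M/mM)/x = (M/xM)/m`
    let S1 : Submodule B M := EGA4.mB A B • ⊤
    let S2 : Submodule B M := x • ⊤
    have e1 : (x • (⊤ : Submodule B (M ⧸ S1))) = S2.map S1.mkQ := by
      rw [Submodule.map_pointwise_smul, Submodule.map_top, Submodule.range_mkQ]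
    have e2 : (EGA4.mB A B • (⊤ : Submodule B (M ⧸ S2))) = S1.map S2.mkQ := by
      rw [Submodule.map_smul'', Submodule.map_top, Submodule.range_mkQ]
    let e : QuotSMulTop x (EGA4.FibMod A B M) ≃ₗ[B] EGA4.FibMod A B (QuotSMulTop x M) :=
      (Submodule.quotEquivOfEq _ _ e1).trans
        ((Submodule.quotientQuotientEquivQuotientSup S1 S2).trans
          ((Submodule.quotEquivOfEq _ _ (sup_comm _ _)).trans
            ((Submodule.quotientQuotientEquivQuotientSup S2 S1).symm.trans
              (Submodule.quotEquivOfEq _ _ e2.symm))))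
    rw [← idealDepth_congr_equiv J e]
    exact h

end K66.FlatDepth
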