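import Groth.Agent.QGor.K66.FlatOff
import Groth.Agent.QGor.K66.FlatDepth
import Groth.Agent.QGor.K967.FibDepth
import Groth.Agent.QGor.K966.DualPres
import Groth.Agent.SDiv.K476.HomSh5
import Groth.Agent.PerfA.CohSerre

/-!
# Comparison of a module with its hull at a point

* `le_depth_dual`, `skAt_two_dual`: depth and `(S₂)` of duals of coherent modules;
* `exists_equiv_of_off`: two coherent modules which agree on `U` have isomorphic stalks at `y ∉ U` if one is
  flat over the base off the complement of `U` with fibre stalk of depth `≥ 2` along it, and the other has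
  depth `≥ 2` near `y` outside `U`.
-/

set_option autoImplicit false
set_option linter.style.haveILetI false
universe u

open AlgebraicGeometry CategoryTheory Limits IsLocalRing TopologicalSpace RefHull

namespace K66.Core

open Groth.Agent Groth.Agent.CycB.LocQuot K66.StalkOff K66.FlatOff K970.RelSk1
  Groth.Agent.Flat2D.FiberStalk Groth.Agent.Dcoh.StalkRestrict

section Dual

variable {X : Scheme.{u}} [IsLocallyNoetherian X]

/-- Depth of the dual of a coherent module. -/
theorem two_le_depth_dual {L : X.Modules} (hL : Coh.IsCoh L) (x : X)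
    (h : 2 ≤ LocCoh.depth (X.presheaf.stalk x) (X.presheaf.stalk x)) :
    2 ≤ LocCoh.depth (X.presheaf.stalk x) ((dual L).presheaf.stalk x) := by
  haveI : Module.Finite (X.presheaf.stalk x) (L.presheaf.stalk x) := Divis.StalkMod.finite_stalk hL x
  have e := K476.HomSh4.dualStalkEquiv L (K476.HomSh3.isFP_of_isCoh hL) x
  have h1 : LocCoh.depth (X.presheaf.stalk x) ((dual L).presheaf.stalk x) =
      LocCoh.depth (X.presheaf.stalk x)
        (Module.Dual (X.presheaf.stalk x) (L.presheaf.stalk x)) :=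
    Localalg.Depth.idealDepth_congr_equiv _ e
  rw [h1]
  exact K966.DualPres.two_le_idealDepth_dual _ _ h

/-- `(S₂)` of the dual of a coherent module. -/
theorem skAt_two_dual {L : X.Modules} (hL : Coh.IsCoh L) (x : X)
    (h : LocCoh.HasSk 2 (X.presheaf.stalk x) (X.presheaf.stalk x)) :
    RelCanon.SkAt 2 (dual L) x := by
  haveI : Module.Finite (X.presheaf.stalk x) (L.presheaf.stalk x) := Divis.StalkMod.finite_stalk hL x
  have e := K476.HomSh4.dualStalkEquiv L (K476.HomSh3.isFP_of_isCoh hL) x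
  exact Ega4B.DepthBasic.hasSk_of_equiv 2 e.symm (K966.DualPres.hasSk_two_dual _ h)

/-- Reflexive powers are duals of coherent modules. -/
theorem exists_refPowZ_eq_dual {F : X.Modules} (hF : Coh.IsCoh F)
    (hT : ∀ (G : X.Modules) (n : ℕ), Coh.IsCoh G → Coh.IsCoh (CohB1.tensorPow G n)) (m : ℤ) :
    ∃ L : X.Modules, Coh.IsCoh L ∧ RelCanon.refPowZ F m = dual L := by
  cases m with
  | ofNat m => exact ⟨_, K476.HomSh4.isCoh_dual (hT F m hF), rfl⟩
  | negSucc m => exact ⟨_, K476.HomSh4.isCoh_dual (hT (dual F) (m + 1) (K476.HomSh4.isCoh_dual hF)), rfl⟩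

end Dual

section Off

variable {X : Scheme.{u}} [IsLocallyNoetherian X]

theorem bijective_of_off {M G : X.Modules} (hM : Coh.IsCoh M) (hG : Coh.IsCoh G) (U : X.Opens)
    (x : X) (φ : M ⟶ G) (hφ : ∀ z ∈ U, z ⤳ x → Function.Bijective (stalkMapₗ φ z))
    (h2 : 2 ≤ LocCoh.idealDepth (offIdeal U x) (M.presheaf.stalk x))
    (hG1 : 1 ≤ LocCoh.idealDepth (offIdeal U x) (G.presheaf.stalk x)) :
    Function.Bijective (stalkMapₗ φ x) := by
  haveI : Module.Finite (X.presheaf.stalk x) (M.presheaf.stalk x) := Divis.StalkMod.finite_stalk hM x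
  haveI : Module.Finite (X.presheaf.stalk x) (G.presheaf.stalk x) := Divis.StalkMod.finite_stalk hG x
  refine K966.BijOff.bijective_of_idealDepth (offIdeal U x) (stalkMapₗ φ x) h2 hG1 (fun P hP => ?_)
  rw [offIdeal_le_iff, not_not] at hP
  have h := bijective_localized hM.1 hG.1 (ptOf_specializes P) (stalkMapₗ φ x) (stalkMapₗ φ (ptOf P))
    (fun m => K476.RefPow1.stalkMapₗ_specializes φ _ m) (hφ _ hP (ptOf_specializes P))
  rw [primeOf_ptOf] at h
  exact h

variable {Y : Scheme.{u}} (j : Y ⟶ X) [IsOpenImmersion j]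

omit [IsLocallyNoetherian X] in
theorem stalkMapₗ_restrict {M G : X.Modules} (φ : M ⟶ G) (y : Y)
    (m : (M.restrict j).presheaf.stalk y) :
    ρ j G y (stalkMapₗ ((Scheme.Modules.restrictFunctor j).map φ) y m) =
      stalkMapₗ φ (j y) (ρ j M y m) := by
  rw [K476.HomSh1.stalkMapₗ_eq, K476.HomSh1.stalkMapₗ_eq]
  exact ρ_naturality j φ y m

omit [IsLocallyNoetherian X] in
theorem bijective_restrict_iff {M G : X.Modules} (φ : M ⟶ G) (y : Y) :
    Function.Bijective (stalkMapₗ ((Scheme.Modules.restrictFunctor j).map φ) y) ↔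
      Function.Bijective (stalkMapₗ φ (j y)) := by
  have h : ⇑(ρ j G y) ∘ ⇑(stalkMapₗ ((Scheme.Modules.restrictFunctor j).map φ) y) =
      ⇑(stalkMapₗ φ (j y)) ∘ ⇑(ρ j M y) := funext fun m => stalkMapₗ_restrict j φ y m
  rw [← (ρ j G y).bijective.of_comp_iff', h, Function.Bijective.of_comp_iff _ (ρ j M y).bijective]

omit [IsLocallyNoetherian X] in
theorem depth_restrict (M : X.Modules) (y : Y) :
    LocCoh.depth (Y.presheaf.stalk y) ((M.restrict j).presheaf.stalk y) =
      LocCoh.depth (X.presheaf.stalk (j y)) (M.presheaf.stalk (j y)) :=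
  Ega4A.DepthBasic.depth_congr_of_surjective
    ((Dcoh.StalkRestrict.stalkEquiv j y).symm : _ →+* _)
    (Dcoh.StalkRestrict.stalkEquiv j y).symm.surjective _ _ (ρ j M y) (ρ_smul' j M y)

/-- A linear equivalence of stalks from one after restriction. -/
noncomputable def stalkEquivOfRestrict {M G : X.Modules} (y : Y)
    (e : (M.restrict j).presheaf.stalk y ≃ₗ[Y.presheaf.stalk y] (G.restrict j).presheaf.stalk y) :
    M.presheaf.stalk (j y) ≃ₗ[X.presheaf.stalk (j y)] G.presheaf.stalk (j y) :=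
  { ((ρ j M y).symm.trans e.toAddEquiv).trans (ρ j G y) with
    map_smul' := fun r m => by
      change ρ j G y (e ((ρ j M y).symm (r • m))) = r • ρ j G y (e ((ρ j M y).symm m))
      rw [ρ_symm_smul, map_smul, ρ_stalkEquiv_smul] }

end Off

section Main

variable {X S : Scheme.{u}} (f : X ⟶ S) [IsLocallyNoetherian X] [IsLocallyNoetherian S]

/-- For a module flat over the base the depth is at least the depth of the fibre stalk. -/
theorem le_idealDepth_of_fib {M : X.Modules} (hM : Coh.IsCoh M) (x : X)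
    (J : Ideal (X.presheaf.stalk x)) (hf : FlatMod.IsFlatOverAt f M x) (n : ℕ)
    (h : (n : ℕ∞) ≤ LocCoh.idealDepth J (FibStalk f M x)) :
    (n : ℕ∞) ≤ LocCoh.idealDepth J (M.presheaf.stalk x) := by
  letI : Algebra (S.presheaf.stalk (f x)) (X.presheaf.stalk x) := (f.stalkMap x).hom.toAlgebra
  letI := FlatMod.moduleStalkOver f M x
  haveI : IsScalarTower (S.presheaf.stalk (f x)) (X.presheaf.stalk x) (M.presheaf.stalk x) :=
      IsScalarTower.of_algebraMap_smul fun r m => rfl
  haveI : Module.Finite (X.presheaf.stalk x) (M.presheaf.stalk x) := Divis.StalkMod.finite_stalk hM x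
  haveI : IsLocalHom (algebraMap (S.presheaf.stalk (f x)) (X.presheaf.stalk x)) :=
    inferInstanceAs (IsLocalHom (f.stalkMap x).hom)
  haveI : Module.Flat (S.presheaf.stalk (f x)) (M.presheaf.stalk x) := hf
  exact K66.FlatDepth.le_idealDepth_of_fib (A := S.presheaf.stalk (f x)) J n (M.presheaf.stalk x) h

/-- The comparison. -/
theorem exists_equiv_of_off {M G : X.Modules} (hM : Coh.IsCoh M) (hG : Coh.IsCoh G) (U V : X.Opens)
    (y : X) (hy : y ∈ V) (e : M.restrict U.ι ≅ G.restrict U.ι)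
    (hflat : ∀ z ∈ U, z ⤳ y → FlatMod.IsFlatOverAt f M z)
    (h2 : 2 ≤ LocCoh.idealDepth (offIdeal U y) (FibStalk f M y))
    (hd : ∀ z ∈ V, z ∉ U → 2 ≤ LocCoh.depth (X.presheaf.stalk z) (G.presheaf.stalk z)) :
    FlatMod.IsFlatOverAt f M y ∧
      Nonempty (M.presheaf.stalk y ≃ₗ[X.presheaf.stalk y] G.presheaf.stalk y) := by
  have hf : FlatMod.IsFlatOverAt f M y :=
    isFlatOverAt_of_off f M hM U y hflat (le_trans (by norm_num) h2)
  refine ⟨hf, ?_⟩
  have h2' : ((2 : ℕ) : ℕ∞) ≤ LocCoh.idealDepth (offIdeal U y) (M.presheaf.stalk y) :=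
    le_idealDepth_of_fib f hM y _ hf 2 h2
  let U' : (V : Scheme.{u}).Opens := V.ι ⁻¹ᵁ U
  have hM' : Coh.IsCoh (M.restrict V.ι) := PerfA.CohSerre.isCoh_restrict V.ι hM
  have hG' : Coh.IsCoh (G.restrict V.ι) := PerfA.CohSerre.isCoh_restrict V.ι hG
  have hcomp : U'.ι ≫ V.ι = (V.ι ∣_ U) ≫ U.ι := (morphismRestrict_ι V.ι U).symm
  let r (F : X.Modules) : (F.restrict V.ι).restrict U'.ι ≅ (F.restrict U.ι).restrict (V.ι ∣_ U) :=
    (Scheme.Modules.restrictFunctorComp U'.ι V.ι).symm.app F ≪≫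
      (Scheme.Modules.restrictFunctorCongr hcomp).app F ≪≫
        (Scheme.Modules.restrictFunctorComp (V.ι ∣_ U) U.ι).app F
  let α : (M.restrict V.ι).restrict U'.ι ≅ (G.restrict V.ι).restrict U'.ι :=
    r M ≪≫ (Scheme.Modules.restrictFunctor (V.ι ∣_ U)).mapIso e ≪≫ (r G).symm
  have hd' : ∀ z : (V : Scheme.{u}), z ∉ U' →
      2 ≤ LocCoh.depth ((V : Scheme.{u}).presheaf.stalk z) ((G.restrict V.ι).presheaf.stalk z) := by
    intro z hz
    rw [depth_restrict]
    exact hd _ z.2 hz
  obtain ⟨β, hβ⟩ := Dual.H375.Hartogs.exists_extend hG' U' hd' α.hom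
  let y' : (V : Scheme.{u}) := ⟨y, hy⟩
  have hb : Function.Bijective (stalkMapₗ β y') := by
    refine bijective_of_off hM' hG' U' y' β (fun z hz _ => ?_) ?_ ?_
    · have h1 := bijective_restrict_iff U'.ι β ⟨z, hz⟩
      rw [hβ] at h1
      exact h1.mp (K476.HomSh4.bijective_stalkMapₗ_of_isIso _ _)
    · refine (le_idealDepth_offIdeal_iff (M.restrict V.ι) hM' U' y' 2).mpr (fun z hz hzU => ?_)
      rw [depth_restrict]
      exact (le_idealDepth_offIdeal_iff M hM U y 2).mp h2' _ (hz.map V.ι.continuous) hzU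
    · refine (le_idealDepth_offIdeal_iff (G.restrict V.ι) hG' U' y' 1).mpr (fun z _ hzU => ?_)
      exact le_trans (by norm_num) (hd' z hzU)
  exact ⟨stalkEquivOfRestrict V.ι y' (LinearEquiv.ofBijective _ hb)⟩

end Main

end K66.Core
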