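import Groth.Prelude.Def_RelCanon
import Groth.Agent.Grpsch.PicGrp
import Groth.Agent.Ega3B.TensRestrict
import Groth.Agent.SDiv.K476.HomSh6
import Groth.Agent.SDiv.K476.HomSh5

/-!
# Integer reflexive powers: isomorphisms, restriction to opens, invertible modules, inverse images
-/

set_option autoImplicit false
universe u

open AlgebraicGeometry CategoryTheory Limits RefHull

namespace K66.RefZ

open Groth.Agent
open Groth.Agent.Grpsch.PicGrp (mk mk_congr mk_eq_iff inv_mk mk_tensorPow pull pull_mk)
open Groth.Agent.Fdesc.LocGen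

variable {X Y : Scheme.{u}} {F G L : X.Modules}

theorem nonempty_tensorPow_congr (e : F ≅ G) (n : ℕ) :
    Nonempty (CohB1.tensorPow F n ≅ CohB1.tensorPow G n) := by
  induction n with
  | zero => exact ⟨Iso.refl _⟩
  | succ n ih => exact ⟨Ega2.Tens.mapTIso ih.some e⟩

/-- Isomorphic modules have isomorphic reflexive powers. -/
theorem nonempty_refPowZ_congr (e : F ≅ G) (m : ℤ) :
    Nonempty (RelCanon.refPowZ F m ≅ RelCanon.refPowZ G m) := by
  cases m with
  | ofNat m =>
    obtain ⟨e'⟩ := nonempty_tensorPow_congr e m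
    exact ⟨K476.HomSh1.ddualIso e'⟩
  | negSucc m =>
    obtain ⟨e'⟩ := nonempty_tensorPow_congr (K476.HomSh1.dualIso e).symm (m + 1)
    exact ⟨K476.HomSh1.ddualIso e'.symm⟩

/-- Reflexive powers and restriction along an open immersion. -/
theorem nonempty_refPowZ_restrict (j : Y ⟶ X) [IsOpenImmersion j] (F : X.Modules) (m : ℤ) :
    Nonempty ((RelCanon.refPowZ F m).restrict j ≅ RelCanon.refPowZ (F.restrict j) m) := by
  cases m with
  | ofNat m =>
    obtain ⟨e⟩ := Ega3B.TensRestrict.restrictPowIso j F m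
    exact ⟨K476.HomSh5.restrictDDual j _ ≪≫ K476.HomSh1.ddualIso e⟩
  | negSucc m =>
    obtain ⟨e⟩ := Ega3B.TensRestrict.restrictPowIso j (dual F) (m + 1)
    obtain ⟨e'⟩ := nonempty_tensorPow_congr (K476.HomSh5.restrictDual j F) (m + 1)
    exact ⟨K476.HomSh5.restrictDDual j _ ≪≫ K476.HomSh1.ddualIso (e ≪≫ e')⟩

theorem mk_dual (hL : PicF.IsInvertible L) :
    mk (dual L) (K476.HomSh6.isInvertible_dual hL) = (mk L hL)⁻¹ := by
  rw [inv_mk]
  exact mk_congr (K476.HomSh6.cmpIso L _)

/-- The class of a double dual of an invertible module. -/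
theorem mk_ddual (hL : PicF.IsInvertible L) :
    mk (ddual L) (K476.HomSh6.isInvertible_dual (K476.HomSh6.isInvertible_dual hL)) = mk L hL := by
  have h := mk_dual (K476.HomSh6.isInvertible_dual hL)
  rw [mk_dual hL] at h
  exact h.trans (inv_inv _)

theorem nonempty_ddual_iso (hL : PicF.IsInvertible L) : Nonempty (ddual L ≅ L) :=
  (mk_eq_iff _ _).mp (mk_ddual hL)

theorem exists_mk_refPowZ (hL : PicF.IsInvertible L) (m : ℤ) :
    ∃ h : PicF.IsInvertible (RelCanon.refPowZ L m), mk (RelCanon.refPowZ L m) h = mk L hL ^ m := by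
  cases m with
  | ofNat m =>
    refine ⟨K476.HomSh6.isInvertible_dual (K476.HomSh6.isInvertible_dual
      (isInvertible_tensorPow hL m)), ?_⟩
    have h := mk_ddual (isInvertible_tensorPow hL m)
    rw [mk_tensorPow] at h
    exact h
  | negSucc m =>
    have hd := K476.HomSh6.isInvertible_dual hL
    refine ⟨K476.HomSh6.isInvertible_dual (K476.HomSh6.isInvertible_dual
      (isInvertible_tensorPow hd (m + 1))), ?_⟩
    have h := mk_ddual (isInvertible_tensorPow hd (m + 1))
    rw [mk_tensorPow hd, mk_dual hL] at h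
    rw [zpow_negSucc, ← inv_pow]
    exact h

theorem isInvertible_refPowZ (hL : PicF.IsInvertible L) (m : ℤ) :
    PicF.IsInvertible (RelCanon.refPowZ L m) := (exists_mk_refPowZ hL m).choose

theorem mk_refPowZ (hL : PicF.IsInvertible L) (m : ℤ) :
    mk (RelCanon.refPowZ L m) (isInvertible_refPowZ hL m) = mk L hL ^ m :=
  (exists_mk_refPowZ hL m).choose_spec

/-- For an invertible module the `n`-th reflexive power is the `n`-th tensor power. -/
theorem nonempty_refPowZ_natCast (hL : PicF.IsInvertible L) (n : ℕ) :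
    Nonempty (RelCanon.refPowZ L (n : ℤ) ≅ CohB1.tensorPow L n) :=
  nonempty_ddual_iso (isInvertible_tensorPow hL n)

/-- Reflexive powers of invertible modules commute with inverse images. -/
theorem nonempty_refPowZ_pullback (p : Y ⟶ X) (hL : PicF.IsInvertible L) (m : ℤ) :
    Nonempty ((Scheme.Modules.pullback p).obj (RelCanon.refPowZ L m) ≅
      RelCanon.refPowZ ((Scheme.Modules.pullback p).obj L) m) := by
  refine (mk_eq_iff (isInvertible_pullback p (isInvertible_refPowZ hL m))
    (isInvertible_refPowZ (isInvertible_pullback p hL) m)).mp ?_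
  rw [← pull_mk p (isInvertible_refPowZ hL m), mk_refPowZ hL, mk_refPowZ (isInvertible_pullback p hL),
    map_zpow, pull_mk]

end K66.RefZ
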