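import Groth.Agent.QGor.K66.Core
import Groth.Agent.QGor.K66.RefZ
import Groth.Agent.QGor.K969.FibDimSch
import Groth.Agent.QGor.K970.InvAt
import Groth.Agent.SDiv.K476.Ref1
import Groth.Agent.Ega3B.DevQC
import Groth.Agent.S2297

/-!
# The fibre of an `S_k`-morphism through its points; the comparison theorem for reflexive powers

* `nonempty_fib_equiv'`, `ringKrullDim_fiber`, `hasSk_fiber`, `two_le_depth_fiber`;
* `two_le_fibStalk`: a coherent module whose restriction to the fibre through `y` is a dual;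
* `relSkAt_refPowZ_of_extension`: the module `ω^{[m]}` satisfies relative `(S₂)` at `y` if `ω^{⊗ m}` on `U` has a
  coherent extension whose restriction to the fibre is a dual.
-/

set_option autoImplicit false
set_option linter.style.haveILetI false
universe u

open AlgebraicGeometry CategoryTheory Limits IsLocalRing TopologicalSpace RefHull

namespace K66.Fibre

open Groth.Agent Groth.Agent.CycB.LocQuot K66.StalkOff K66.FlatOff K66.Core K970.RelSk1
  Groth.Agent.Flat2D.FiberStalk

section Fib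

variable {X S : Scheme.{u}} (f : X ⟶ S)

theorem nonempty_fib_equiv (s : S) (z : f.fiber s) :
    Nonempty (FibRingStalk f (f.fiberι s z) ≃+* (f.fiber s).presheaf.stalk z) :=
  ⟨(Ideal.quotEquivOfEq (ker_stalkMap_fiberι f s z).symm).trans
    (RingHom.quotientKerEquivOfSurjective (stalkMap_fiberι_surjective f s z))⟩

/-- The local ring of the fibre at `z` is that at the point `asFiber` of its image. -/
theorem nonempty_fib_equiv' (s : S) (z : f.fiber s) :
    Nonempty ((f.fiber (f (f.fiberι s z))).presheaf.stalk (f.asFiber (f.fiberι s z)) ≃+*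
      (f.fiber s).presheaf.stalk z) := by
  obtain ⟨e⟩ := nonempty_asFiber_stalkEquiv f (f.fiberι s z)
  obtain ⟨e'⟩ := nonempty_fib_equiv f s z
  exact ⟨e.symm.trans e'⟩

theorem ringKrullDim_fiber (s : S) (z : f.fiber s) :
    ringKrullDim ((f.fiber (f (f.fiberι s z))).presheaf.stalk (f.asFiber (f.fiberι s z))) =
      ringKrullDim ((f.fiber s).presheaf.stalk z) := by
  obtain ⟨e⟩ := nonempty_fib_equiv' f s z
  exact ringKrullDim_eq_of_ringEquiv e

theorem hasSk_fiber {k : ℕ} (hS : RelCanon.IsSkMor f k) (s : S) (z : f.fiber s) :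
    LocCoh.HasSk k ((f.fiber s).presheaf.stalk z) ((f.fiber s).presheaf.stalk z) := by
  obtain ⟨e⟩ := nonempty_fib_equiv' f s z
  exact K969.FibDimSch.hasSk_of_ringEquiv k e
    ((K969.FibDimSch.skAt_structureModule_iff k _).mp (hS.2.2 (f.fiberι s z)))

theorem le_depth_fiber {k : ℕ} (hS : RelCanon.IsSkMor f k) (s : S) (z : f.fiber s)
    (hz : (k : WithBot ℕ∞) ≤
      ringKrullDim ((f.fiber (f (f.fiberι s z))).presheaf.stalk (f.asFiber (f.fiberι s z)))) :
    (k : ℕ∞) ≤ LocCoh.depth ((f.fiber s).presheaf.stalk z) ((f.fiber s).presheaf.stalk z) := by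
  rw [ringKrullDim_fiber] at hz
  have h1 := Ega4A.FlatAtPrime.le_depth_of_hasSk _ k (hasSk_fiber f hS s z)
  rw [Module.supportDim_self_eq_ringKrullDim, min_eq_left hz] at h1
  exact WithBot.coe_le_coe.mp h1

theorem isLocallyNoetherian_fiber [LocallyOfFiniteType f] (s : S) :
    IsLocallyNoetherian (f.fiber s) := by
  haveI : LocallyOfFiniteType (f.fiberToSpecResidueField s) :=
    inferInstanceAs (LocallyOfFiniteType (pullback.snd f (S.fromSpecResidueField s)))
  exact LocallyOfFiniteType.isLocallyNoetherian (f.fiberToSpecResidueField s)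

/-- A coherent module whose restriction to the fibre through `y` is a dual. -/
theorem two_le_fibStalk (hS : RelCanon.IsSkMor f 2) (U : X.Opens) (y : X)
    (hcod : ∀ z : X, f z = f y → z ∉ U →
      (2 : WithBot ℕ∞) ≤ ringKrullDim ((f.fiber (f z)).presheaf.stalk (f.asFiber z)))
    (M : X.Modules) (L : (f.fiber (f y)).Modules) (hL : Coh.IsCoh L)
    (e : (Scheme.Modules.pullback (f.fiberι (f y))).obj M ≅ dual L) :
    2 ≤ LocCoh.idealDepth (offIdeal U y) (FibStalk f M y) ∧
      RelCanon.SkAt 2 ((Scheme.Modules.pullback (f.fiberι (f y))).obj M) (f.asFiber y) := by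
  haveI := hS.2.1
  haveI := isLocallyNoetherian_fiber f (f y)
  have hM : Coh.IsCoh ((Scheme.Modules.pullback (f.fiberι (f y))).obj M) :=
    Ega3B.DevQC.isCoh_of_iso e.symm (K476.HomSh4.isCoh_dual hL)
  refine ⟨?_, skAt_of_iso 2 e.symm _ (skAt_two_dual hL _ (hasSk_fiber f hS _ _))⟩
  have key := le_idealDepth_fibStalk_iff f M U (f y) (f.asFiber y) hM 2
  have h1 : ∀ x' : X, x' = y → (((2 : ℕ) : ℕ∞) ≤ LocCoh.idealDepth (offIdeal U x') (FibStalk f M x') ↔
      ((2 : ℕ) : ℕ∞) ≤ LocCoh.idealDepth (offIdeal U y) (FibStalk f M y)) := by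
    rintro _ rfl; exact Iff.rfl
  rw [h1 _ (f.fiberι_asFiber y)] at key
  refine key.mpr (fun z' _ hzU => ?_)
  have h2 : LocCoh.depth ((f.fiber (f y)).presheaf.stalk z')
      (((Scheme.Modules.pullback (f.fiberι (f y))).obj M).presheaf.stalk z') =
      LocCoh.depth ((f.fiber (f y)).presheaf.stalk z') ((dual L).presheaf.stalk z') :=
    Localalg.Depth.idealDepth_congr_equiv _ (Fdesc.Skyscraper.stalkIso e z')
  rw [h2]
  exact two_le_depth_dual hL z' (le_depth_fiber f hS _ z' (hcod _ (apply_fiberι f _ z') hzU))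

end Fib

section Ref

variable {X : Scheme.{u}} [IsLocallyNoetherian X]

omit [IsLocallyNoetherian X] in
theorem isCoh_tensorMod {F G : X.Modules} (hF : Coh.IsCoh F) (hG : Coh.IsCoh G) :
    Coh.IsCoh (CohB1.tensorMod F G) := by
  haveI := hF.1
  haveI := hG.1
  exact ⟨(Groth.Agent.S2297.result F G).1, (Groth.Agent.S2297.result F G).2 hF.2 hG.2⟩

theorem isCoh_tensorPow {F : X.Modules} (hF : Coh.IsCoh F) :
    ∀ n, Coh.IsCoh (CohB1.tensorPow F n)
  | 0 => Groth.Agent.Fdesc.StructMod.isCoh_structureModule X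
  | n + 1 => isCoh_tensorMod (isCoh_tensorPow hF n) hF

theorem exists_refPowZ_eq {F : X.Modules} (hF : Coh.IsCoh F) (m : ℤ) :
    ∃ L : X.Modules, Coh.IsCoh L ∧ RelCanon.refPowZ F m = dual L :=
  exists_refPowZ_eq_dual hF (fun _ n h => isCoh_tensorPow h n) m

theorem isCoh_refPowZ {F : X.Modules} (hF : Coh.IsCoh F) (m : ℤ) :
    Coh.IsCoh (RelCanon.refPowZ F m) := by
  obtain ⟨L, hL, h⟩ := exists_refPowZ_eq hF m
  rw [h]
  exact K476.HomSh4.isCoh_dual hL

end Ref

section Main

variable {X S : Scheme.{u}} (f : X ⟶ S)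

/-- An invertible module is flat over the base if the morphism is flat. -/
theorem isFlatOverAt_of_invertibleAt [Flat f] {M : X.Modules} (z : X)
    (h : RelCanon.InvertibleAt M z) : FlatMod.IsFlatOverAt f M z := by
  obtain ⟨e⟩ := K970.InvAt.nonempty_stalk_equiv z h
  letI := FlatMod.moduleStalkOver f M z
  letI : Module (S.presheaf.stalk (f z)) (X.presheaf.stalk z) :=
    Module.compHom _ (f.stalkMap z).hom
  have h1 : Module.Flat (S.presheaf.stalk (f z)) (X.presheaf.stalk z) := Flat.stalkMap f z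
  exact Ega3B.FlatRestrict.flat_of_semilinear (RingEquiv.refl _) e.toAddEquiv
    (fun r m => e.map_smul ((f.stalkMap z).hom r) m) h1

variable [IsLocallyNoetherian X] [IsLocallyNoetherian S]

omit [IsLocallyNoetherian X] [IsLocallyNoetherian S] in
/-- A neighbourhood of `y` in which the codimension in the fibres of the complement of `U` is at least two. -/
theorem exists_open_codim [LocallyOfFiniteType f] {d : ℕ} (hd : Cyc.HasRelDim f d) (U : X.Opens) (y : X)
    (c : WithBot ℕ∞)
    (hcod : ∀ z : X, f z = f y → z ∉ U →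
      c ≤ ringKrullDim ((f.fiber (f z)).presheaf.stalk (f.asFiber z))) :
    ∃ V : X.Opens, y ∈ V ∧ ∀ z ∈ V, z ∉ U →
      c ≤ ringKrullDim ((f.fiber (f z)).presheaf.stalk (f.asFiber z)) := by
  obtain ⟨V, -, hyV, hV⟩ := K969.FibDimSch.exists_open_codim_ge f d ⊤
    (fun z _ => (K582.FibRelDim.hasRelDim_iff f d).mp hd z) y trivial U c
    (fun z hz hzU _ => hcod z hz hzU)
  exact ⟨V, hyV, hV⟩

/-- The comparison theorem. -/
theorem relSkAt_refPowZ_of_extension (hS : RelCanon.IsSkMor f 2) {d : ℕ} (hd : Cyc.HasRelDim f d)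
    (U : X.Opens) (ω : X.Modules) (hω : Coh.IsCoh ω) (hU : ∀ z ∈ U, RelCanon.InvertibleAt ω z)
    (y : X)
    (hcod : ∀ z : X, f z = f y → z ∉ U →
      (2 : WithBot ℕ∞) ≤ ringKrullDim ((f.fiber (f z)).presheaf.stalk (f.asFiber z)))
    (m : ℤ) (M : X.Modules) (hM : Coh.IsCoh M) (L : (f.fiber (f y)).Modules) (hL : Coh.IsCoh L)
    (e : (Scheme.Modules.pullback (f.fiberι (f y))).obj M ≅ dual L)
    (e' : M.restrict U.ι ≅ RelCanon.refPowZ (ω.restrict U.ι) m) :
    RelCanon.RelSkAt f 2 (RelCanon.refPowZ ω m) y := by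
  haveI := hS.1
  haveI := hS.2.1
  obtain ⟨h2, hSk⟩ := two_le_fibStalk f hS U y hcod M L hL e
  obtain ⟨V, hyV, hV⟩ := exists_open_codim f hd U y 2 hcod
  obtain ⟨K, hK, hKe⟩ := exists_refPowZ_eq hω m
  have hinv : PicF.IsInvertible (ω.restrict U.ι) :=
    (K970.InvAt.isInvertible_restrict_iff U.ι ω).mpr fun z => hU _ z.2
  obtain ⟨r⟩ := RefZ.nonempty_refPowZ_restrict U.ι ω m
  obtain ⟨hf, ⟨φ⟩⟩ := exists_equiv_of_off f hM (isCoh_refPowZ hω m) U V y hyV (e' ≪≫ r.symm)
    (fun z hz _ => by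
      refine isFlatOverAt_of_invertibleAt f z ?_
      have h1 : PicF.IsInvertible (M.restrict U.ι) :=
        K476.HomSh6.isInvertible_of_iso e'.symm (RefZ.isInvertible_refPowZ hinv m)
      exact (K970.InvAt.isInvertible_restrict_iff U.ι M).mp h1 ⟨z, hz⟩) h2
    (fun z hz hzU => by
      rw [hKe]
      exact two_le_depth_dual hK z (K967.FibDepth.two_le_depth_stalk f hS z (hV z hz hzU)))
  exact relSkAt_of_equiv f 2 y φ ⟨hf, hSk⟩

end Main

end K66.Fibre
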