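import Groth.Agent.S18726
import Groth.Agent.S18709
import Groth.Agent.QGor.K966.BijOff
import Groth.Agent.QGor.K968.LocKey3

/-!
# Flatness of a reflexive module from a comparison map of the closed fibre

`flat_of_map`: `A → B` a flat local homomorphism of Noetherian local rings, `F` a finite reflexive `B`-module, free
off `V(J)`, `depth_J (B / m B) ≥ 2`, and `ψ : F / m F → N` with kernel and cokernel supported on `V(J)` and
`depth_J N ≥ 3`. Then `F` is flat over `A` and `depth_J (F / m F) ≥ 2`.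
-/

set_option autoImplicit false
set_option linter.style.haveILetI false
universe u

open Groth.Agent.Localalg Groth.Agent.Localalg.Depth Groth.Agent.Localalg.Depth2 Groth.Agent.Localalg.Depth3
  Groth.Agent.Localalg.DepthLC

namespace K66.H2Crit

open Groth.Agent

section LC

variable {R : Type u} [CommRing R] [IsNoetherianRing R] (J : Ideal R) {M' M M'' : Type u} [AddCommGroup M']
  [Module R M'] [AddCommGroup M] [Module R M] [AddCommGroup M''] [Module R M'']
  (f : M' →ₗ[R] M) (g : M →ₗ[R] M'')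

omit [IsNoetherianRing R] in
/-- `H^i(M') = 0` and `H^i(M'') = 0` give `H^i(M) = 0`. -/
theorem subsingleton_mid (hf : Function.Injective f) (hg : Function.Surjective g)
    (h : Function.Exact f g) (i : ℕ) (h1 : Subsingleton (LocCoh.H J i M'))
    (h2 : Subsingleton (LocCoh.H J i M'')) : Subsingleton (LocCoh.H J i M) := by
  obtain ⟨δ, h3, -, -⟩ := LCIface.les J M' M M'' f g hf hg h i
  have key : ∀ x : LocCoh.H J i M, x = 0 := by
    intro x
    obtain ⟨y, rfl⟩ := (h3 x).mp (h2.elim _ _)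
    rw [h1.elim y 0, map_zero]
  exact ⟨fun x y => by rw [key x, key y]⟩

omit [IsNoetherianRing R] in
/-- `H^i(M'') = 0` and `H^{i+1}(M) = 0` give `H^{i+1}(M') = 0`. -/
theorem subsingleton_left (hf : Function.Injective f) (hg : Function.Surjective g)
    (h : Function.Exact f g) (i : ℕ) (h1 : Subsingleton (LocCoh.H J i M''))
    (h2 : Subsingleton (LocCoh.H J (i + 1) M)) : Subsingleton (LocCoh.H J (i + 1) M') := by
  obtain ⟨δ, -, -, h3⟩ := LCIface.les J M' M M'' f g hf hg h i
  have key : ∀ x : LocCoh.H J (i + 1) M', x = 0 := by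
    intro x
    obtain ⟨y, rfl⟩ := (h3 x).mp (h2.elim _ _)
    rw [h1.elim y 0, map_zero]
  exact ⟨fun x y => by rw [key x, key y]⟩

/-- `H^{i+2}(M) = 0` if the kernel and the cokernel of `M → N` are `J`-power torsion and `H^{i+2}(N) = 0`. -/
theorem subsingleton_of_map (ψ : M →ₗ[R] M'')
    (hK : LocCoh.IsPowerTorsion J (LinearMap.ker ψ))
    (hQ : LocCoh.IsPowerTorsion J (M'' ⧸ LinearMap.range ψ)) (i : ℕ)
    (h : Subsingleton (LocCoh.H J (i + 2) M'')) : Subsingleton (LocCoh.H J (i + 2) M) := by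
  have h1 : Subsingleton (LocCoh.H J (i + 2) (LinearMap.range ψ)) := by
    refine subsingleton_left J (LinearMap.range ψ).subtype (LinearMap.range ψ).mkQ
      (Submodule.injective_subtype _) (Submodule.mkQ_surjective _)
      (LinearMap.exact_subtype_mkQ _) (i + 1) ?_ h
    exact LCIface.subsingleton_H_of_torsion J _ hQ (i + 1) (Nat.succ_pos i)
  refine subsingleton_mid J (LinearMap.ker ψ).subtype ψ.rangeRestrict
    (Submodule.injective_subtype _) (LinearMap.surjective_rangeRestrict _) ?_ (i + 2) ?_ h1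
  · have h2 := LinearMap.exact_subtype_ker_map ψ.rangeRestrict
    rw [LinearMap.exact_iff] at h2 ⊢
    rw [h2, LinearMap.ker_rangeRestrict]
  · exact LCIface.subsingleton_H_of_torsion J _ hK (i + 2) (Nat.succ_pos _)

theorem isPowerTorsion_ker [Module.Finite R M] (ψ : M →ₗ[R] M'')
    (hψ : ∀ q : PrimeSpectrum R, ¬ J ≤ q.asIdeal →
      Function.Bijective (LocalizedModule.map q.asIdeal.primeCompl ψ)) :
    LocCoh.IsPowerTorsion J (LinearMap.ker ψ) :=
  K967.LCSeq.isPowerTorsion_of_support J _ (fun q hq => by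
    by_contra hJ
    exact K966.BijOff.notMem_support_ker ψ q (hψ q hJ).1 hq)

theorem isPowerTorsion_coker [Module.Finite R M''] (ψ : M →ₗ[R] M'')
    (hψ : ∀ q : PrimeSpectrum R, ¬ J ≤ q.asIdeal →
      Function.Bijective (LocalizedModule.map q.asIdeal.primeCompl ψ)) :
    LocCoh.IsPowerTorsion J (M'' ⧸ LinearMap.range ψ) :=
  K967.LCSeq.isPowerTorsion_of_support J _ (fun q hq => by
    by_contra hJ
    exact K966.BijOff.notMem_support_coker ψ q (hψ q hJ).2 hq)

omit [IsNoetherianRing R] in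
/-- Power torsion of kernel and cokernel along a ring homomorphism. -/
theorem isPowerTorsion_semilinear {R' : Type u} [CommRing R'] (φ : R →+* R')
    {M₁ N₁ : Type u} [AddCommGroup M₁] [Module R' M₁] [AddCommGroup N₁] [Module R' N₁]
    (ψ₁ : M₁ →ₗ[R'] N₁) (ψ : M →ₗ[R] M'') (e : M ≃+ M₁) (he : ∀ (r : R) (m : M), e (r • m) = φ r • e m)
    (e' : M'' ≃+ N₁) (he' : ∀ (r : R) (m : M''), e' (r • m) = φ r • e' m)
    (hc : ∀ m, e' (ψ m) = ψ₁ (e m))
    (hK : LocCoh.IsPowerTorsion (J.map φ) (LinearMap.ker ψ₁))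
    (hQ : LocCoh.IsPowerTorsion (J.map φ) (N₁ ⧸ LinearMap.range ψ₁)) :
    LocCoh.IsPowerTorsion J (LinearMap.ker ψ) ∧ LocCoh.IsPowerTorsion J (M'' ⧸ LinearMap.range ψ) := by
  constructor
  · rintro ⟨x, hx⟩
    have hx' : e x ∈ LinearMap.ker ψ₁ := by
      rw [LinearMap.mem_ker, ← hc, LinearMap.mem_ker.mp hx, map_zero]
    obtain ⟨n, hn⟩ := hK ⟨e x, hx'⟩
    refine ⟨n, fun a ha => ?_⟩
    have h1 := congrArg Subtype.val (hn (φ a) (by
      rw [← Ideal.map_pow]
      exact Ideal.mem_map_of_mem φ ha))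
    apply Subtype.ext
    apply e.injective
    change e (a • x) = e 0
    rw [he, map_zero]
    exact h1
  · intro q
    obtain ⟨x, rfl⟩ := Submodule.Quotient.mk_surjective _ q
    obtain ⟨n, hn⟩ := hQ (Submodule.Quotient.mk (e' x))
    refine ⟨n, fun a ha => ?_⟩
    have h1 := hn (φ a) (by
      rw [← Ideal.map_pow]
      exact Ideal.mem_map_of_mem φ ha)
    rw [← Submodule.Quotient.mk_smul, Submodule.Quotient.mk_eq_zero] at h1 ⊢
    obtain ⟨w, hw⟩ := h1
    refine ⟨e.symm w, e'.injective ?_⟩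
    rw [hc, AddEquiv.apply_symm_apply, hw, he']

end LC

section Main

variable {A B : Type u} [CommRing A] [CommRing B] [IsNoetherianRing A] [IsNoetherianRing B]
  [IsLocalRing A] [IsLocalRing B] [Algebra A B] [IsLocalHom (algebraMap A B)] [Module.Flat A B]
  (J : Ideal B) (F : Type u) [AddCommGroup F] [Module B F] [Module A F] [IsScalarTower A B F]
  [Module.Finite B F] [Module.IsReflexive B F]

theorem flat_of_subsingleton
    (hU : ∀ q : PrimeSpectrum B, ¬ J ≤ q.asIdeal →
      Module.Free (Localization.AtPrime q.asIdeal) (LocalizedModule q.asIdeal.primeCompl F))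
    (hB : 2 ≤ LocCoh.idealDepth J (B ⧸ EGA4.mB A B))
    (hH : Subsingleton (LocCoh.H J 2 (EGA4.FibMod A B F))) :
    Module.Flat A F ∧ 2 ≤ LocCoh.idealDepth J (EGA4.FibMod A B F) := by
  obtain ⟨n, m, g, h, hg, hgh, hh⟩ := Groth.Agent.S18709.result B J F hU
  have hf0 : Module.Flat A (Fin n → B) := Module.Flat.trans A B _
  have hf1 : Module.Flat A (Fin m → B) := Module.Flat.trans A B _
  have key := Groth.Agent.S18726.result A B J F (Fin n → B) (Fin m → B)
    ((Fin m → B) ⧸ LinearMap.range h) g h (LinearMap.range h).mkQ hg hgh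
    (LinearMap.exact_map_mkQ_range h) (Submodule.mkQ_surjective _)
    (fun q hq => by
      haveI := hh q hq
      haveI : Module.Flat (Localization.AtPrime q.asIdeal)
        (LocalizedModule q.asIdeal.primeCompl ((Fin m → B) ⧸ LinearMap.range h)) := inferInstance
      haveI : Module.Flat B (Localization.AtPrime q.asIdeal) :=
        IsLocalization.flat _ q.asIdeal.primeCompl
      haveI : Module.Flat A (Localization.AtPrime q.asIdeal) := Module.Flat.trans A B _
      exact Module.Flat.trans A (Localization.AtPrime q.asIdeal) _)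
    (K968.LocKey.le_idealDepth_quot_pi _ _ _ hB)
    (K968.LocKey.le_idealDepth_quot_pi _ _ _ (le_trans (by norm_num) hB)) hH
  exact ⟨key.1, key.2.2⟩

theorem flat_of_map
    (hU : ∀ q : PrimeSpectrum B, ¬ J ≤ q.asIdeal →
      Module.Free (Localization.AtPrime q.asIdeal) (LocalizedModule q.asIdeal.primeCompl F))
    (hB : 2 ≤ LocCoh.idealDepth J (B ⧸ EGA4.mB A B))
    (N : Type u) [AddCommGroup N] [Module B N] [Module.Finite B N] (hN : 3 ≤ LocCoh.idealDepth J N)
    (ψ : EGA4.FibMod A B F →ₗ[B] N)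
    (hK : LocCoh.IsPowerTorsion J (LinearMap.ker ψ))
    (hQ : LocCoh.IsPowerTorsion J (N ⧸ LinearMap.range ψ)) :
    Module.Flat A F ∧ 2 ≤ LocCoh.idealDepth J (EGA4.FibMod A B F) :=
  flat_of_subsingleton J F hU hB (subsingleton_of_map J ψ hK hQ 0
    (subsingleton_H_of_lt_idealDepth J N 2 (lt_of_lt_of_le (by norm_num) hN)))

end Main

end K66.H2Crit
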