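import Groth.Agent.QGor.K66.S3Crit
import Groth.Agent.Ega3B.PullTensor

/-!
# Relative `(S₂)` for reflexive powers of `ω` along a fibre

* `relSkAt_refPowZ_of_three`: the form with `(S₃)` on the fibre;
* `relSkAt_refPowZ_of_ext`: the form with coherent extensions of the tensor powers.
-/

set_option autoImplicit false
set_option linter.style.haveILetI false
universe u

open AlgebraicGeometry CategoryTheory Limits IsLocalRing TopologicalSpace RefHull

namespace K66.Main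

open Groth.Agent

variable {X S : Scheme.{u}} (f : X ⟶ S) [IsLocallyNoetherian X] [IsLocallyNoetherian S]

omit [IsLocallyNoetherian X] [IsLocallyNoetherian S] in
theorem exists_asFiber {s : S} {y : X} (h : f y = s) : ∃ z : f.fiber s, f.fiberι s z = y := by
  subst h
  exact ⟨f.asFiber y, f.fiberι_asFiber y⟩

omit [IsLocallyNoetherian X] [IsLocallyNoetherian S] in
/-- Invertibility of reflexive powers on an open subset. -/
theorem invertibleAt_refPowZ (ω : X.Modules) (U : X.Opens) (hU : ∀ z ∈ U, RelCanon.InvertibleAt ω z)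
    (m : ℤ) : ∀ z ∈ U, RelCanon.InvertibleAt (RelCanon.refPowZ ω m) z := by
  have h1 : PicF.IsInvertible (ω.restrict U.ι) :=
    (K970.InvAt.isInvertible_restrict_iff U.ι ω).mpr fun z => hU _ z.2
  obtain ⟨e⟩ := RefZ.nonempty_refPowZ_restrict U.ι ω m
  have h2 : PicF.IsInvertible ((RelCanon.refPowZ ω m).restrict U.ι) :=
    K476.HomSh6.isInvertible_of_iso e.symm (RefZ.isInvertible_refPowZ h1 m)
  exact fun z hz => (K970.InvAt.isInvertible_restrict_iff U.ι _).mp h2 ⟨z, hz⟩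

omit [IsLocallyNoetherian X] [IsLocallyNoetherian S] in
/-- Reflexive powers and inverse images over an open subset on which the module is invertible. -/
theorem nonempty_pullback_refPowZ {Z : Scheme.{u}} (i : Z ⟶ X) (ω : X.Modules) (U : X.Opens)
    (hU : ∀ z ∈ U, RelCanon.InvertibleAt ω z) (ω' : Z.Modules)
    (e : ((Scheme.Modules.pullback i).obj ω).restrict (i ⁻¹ᵁ U).ι ≅ ω'.restrict (i ⁻¹ᵁ U).ι) (m : ℤ) :
    Nonempty (((Scheme.Modules.pullback i).obj (RelCanon.refPowZ ω m)).restrict (i ⁻¹ᵁ U).ι ≅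
      (RelCanon.refPowZ ω' m).restrict (i ⁻¹ᵁ U).ι) := by
  have h1 : PicF.IsInvertible (ω.restrict U.ι) :=
    (K970.InvAt.isInvertible_restrict_iff U.ι ω).mpr fun z => hU _ z.2
  obtain ⟨e1⟩ := RefZ.nonempty_refPowZ_restrict U.ι ω m
  obtain ⟨e2⟩ := RefZ.nonempty_refPowZ_pullback (i ∣_ U) h1 m
  obtain ⟨e3⟩ := RefZ.nonempty_refPowZ_congr ((FormalA.PullbackQC.restrictPullbackIso i U ω).symm ≪≫ e) m
  obtain ⟨e4⟩ := RefZ.nonempty_refPowZ_restrict (i ⁻¹ᵁ U).ι ω' m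
  exact ⟨FormalA.PullbackQC.restrictPullbackIso i U _ ≪≫ (Scheme.Modules.pullback (i ∣_ U)).mapIso e1 ≪≫
    e2 ≪≫ e3 ≪≫ e4.symm⟩

/-- Relative `(S₂)` of the reflexive powers from `(S₃)` on the fibre. -/
theorem relSkAt_refPowZ_of_three (hS : RelCanon.IsSkMor f 2) (U : X.Opens) (ω : X.Modules)
    (hω : Coh.IsCoh ω) (hU : ∀ z ∈ U, RelCanon.InvertibleAt ω z)
    (hcod : ∀ z : X, z ∉ U →
      (2 : WithBot ℕ∞) ≤ ringKrullDim ((f.fiber (f z)).presheaf.stalk (f.asFiber z)))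
    (s : S) (ωs : (f.fiber s).Modules) (hωs : Coh.IsCoh ωs)
    (e : ((Scheme.Modules.pullback (f.fiberι s)).obj ω).restrict ((f.fiberι s) ⁻¹ᵁ U).ι ≅
      ωs.restrict ((f.fiberι s) ⁻¹ᵁ U).ι)
    (hdim : ∀ y : X, f y = s → y ∉ U →
      (3 : WithBot ℕ∞) ≤ ringKrullDim ((f.fiber (f y)).presheaf.stalk (f.asFiber y)))
    (m : ℤ) (h3 : RelCanon.HasSk 3 (RelCanon.refPowZ ωs m)) (y : X) (hy : f y = s) :
    RelCanon.RelSkAt f 2 (RelCanon.refPowZ ω m) y := by
  haveI := hS.2.1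
  haveI := Fibre.isLocallyNoetherian_fiber f s
  obtain ⟨z, rfl⟩ := exists_asFiber f hy
  obtain ⟨L, hL, hGL⟩ := Fibre.exists_refPowZ_eq hω m
  obtain ⟨α⟩ := nonempty_pullback_refPowZ (f.fiberι s) ω U hU ωs e m
  have hinv := invertibleAt_refPowZ ω U hU m
  have hωsU : ∀ w ∈ (f.fiberι s) ⁻¹ᵁ U, RelCanon.InvertibleAt ωs w := by
    have h1 : ∀ w ∈ (f.fiberι s) ⁻¹ᵁ U, RelCanon.InvertibleAt ((Scheme.Modules.pullback (f.fiberι s)).obj ω) w :=
      fun w hw => K970.InvAt.invertibleAt_pullback (f.fiberι s) ω w (hU _ hw)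
    have h2 : PicF.IsInvertible (((Scheme.Modules.pullback (f.fiberι s)).obj ω).restrict
        ((f.fiberι s) ⁻¹ᵁ U).ι) :=
      (K970.InvAt.isInvertible_restrict_iff _ _).mpr fun w => h1 _ w.2
    have h3 := K476.HomSh6.isInvertible_of_iso e h2
    exact fun w hw => (K970.InvAt.isInvertible_restrict_iff _ _).mp h3 ⟨w, hw⟩
  exact S3Crit.relSkAt_of_hasSk_three f hS U s z hcod
    (fun z' hz' => by
      rw [← Fibre.ringKrullDim_fiber]
      exact hdim _ (Groth.Agent.Flat2D.FiberStalk.apply_fiberι f _ z') hz')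
    _ L hL hGL hinv _ (Fibre.isCoh_refPowZ hωs m)
    (invertibleAt_refPowZ ωs _ hωsU m) h3 α

/-- Relative `(S₂)` of the reflexive powers from coherent extensions of the tensor powers. -/
theorem relSkAt_refPowZ_of_ext (hS : RelCanon.IsSkMor f 2) {d : ℕ} (hd : Cyc.HasRelDim f d)
    (U : X.Opens) (ω : X.Modules) (hω : Coh.IsCoh ω) (hU : ∀ z ∈ U, RelCanon.InvertibleAt ω z)
    (s : S) (ωs : (f.fiber s).Modules) (hωs : Coh.IsCoh ωs)
    (hcod : ∀ z : X, f z = s → z ∉ U →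
      (2 : WithBot ℕ∞) ≤ ringKrullDim ((f.fiber (f z)).presheaf.stalk (f.asFiber z)))
    (M : ℕ → X.Modules) (hMc : ∀ m : ℕ, 1 ≤ m → Coh.IsCoh (M m))
    (hMt : ∀ m : ℕ, 1 ≤ m →
      Nonempty ((Scheme.Modules.pullback (f.fiberι s)).obj (M m) ≅ RelCanon.refPowZ ωs m))
    (hMo : ∀ m : ℕ, 1 ≤ m → Nonempty ((M m).restrict U.ι ≅ CohB1.tensorPow (ω.restrict U.ι) m))
    (m : ℕ) (y : X) (hy : f y = s) : RelCanon.RelSkAt f 2 (RelCanon.refPowZ ω m) y := by
  subst hy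
  haveI := hS.2.1
  haveI := Fibre.isLocallyNoetherian_fiber f (f y)
  have hinv : PicF.IsInvertible (ω.restrict U.ι) :=
    (K970.InvAt.isInvertible_restrict_iff U.ι ω).mpr fun z => hU _ z.2
  obtain ⟨r⟩ := RefZ.nonempty_refPowZ_natCast hinv m
  rcases Nat.eq_zero_or_pos m with rfl | hm
  · obtain ⟨e0⟩ := Ega3B.PullTensor.nonempty_pullUnitIso (f.fiberι (f y))
    obtain ⟨e1⟩ := RefZ.nonempty_ddual_iso (X := f.fiber (f y))
      Fdesc.LocGen.isInvertible_structureModule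
    obtain ⟨e2⟩ := Ega3B.PullTensor.nonempty_pullUnitIso U.ι
    exact Fibre.relSkAt_refPowZ_of_extension f hS hd U ω hω hU y hcod 0 (Coh.structureModule X)
      (Fdesc.StructMod.isCoh_structureModule X) (dual (Coh.structureModule _))
      (K476.HomSh4.isCoh_dual (Fdesc.StructMod.isCoh_structureModule _)) (e0 ≪≫ e1.symm)
      ((Scheme.Modules.restrictFunctorIsoPullback U.ι).app _ ≪≫ e2 ≪≫ r.symm)
  · obtain ⟨L, hL, hGL⟩ := Fibre.exists_refPowZ_eq hωs m
    obtain ⟨e1⟩ := hMt m hm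
    obtain ⟨e2⟩ := hMo m hm
    exact Fibre.relSkAt_refPowZ_of_extension f hS hd U ω hω hU y hcod m (M m) (hMc m hm) L hL
      (e1 ≪≫ eqToIso hGL) (e2 ≪≫ r.symm)

end K66.Main
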