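import Groth.Agent.QGor.K967.OmegaBasic
import Groth.Agent.QGor.K968.Compare4
import Groth.Agent.FormalA.PullbackQC

/-!
# The dualizing sheaf of a fibre

* `isCoh_fibre`: a dualizing sheaf of a fibre is coherent;
* `nonempty_restrict_fibre`: over the Gorenstein locus the restriction of `ω` to the fibre is the dualizing sheaf of
  the fibre.
-/

set_option autoImplicit false
set_option linter.style.haveILetI false
universe u

open AlgebraicGeometry CategoryTheory Limits TopologicalSpace

namespace K66.OmegaFib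

open Groth.Agent

variable (A : Type u) [CommRing A] [IsNoetherianRing A] {Y : Scheme.{u}}
  [Y.Over (Spec (CommRingCat.of A))] [IsProper (Y ↘ Spec (CommRingCat.of A))] {d : ℕ}
  (hd : Cyc.HasRelDim (Y ↘ Spec (CommRingCat.of A)) d) (t : Spec (CommRingCat.of A))
  {ωt : ((Y ↘ Spec (CommRingCat.of A)).fiber t).Modules}
  (hωt : @RelCanon.IsDualizingSheaf ((Spec (CommRingCat.of A)).residueField t) _
    ((Y ↘ Spec (CommRingCat.of A)).fiber t)
    ⟨(Y ↘ Spec (CommRingCat.of A)).fiberToSpecResidueField t⟩ d ωt)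

include hd hωt

omit [IsNoetherianRing A] in
/-- A dualizing sheaf of a fibre is coherent. -/
theorem isCoh_fibre : Coh.IsCoh ωt := by
  letI : ((Y ↘ Spec (CommRingCat.of A)).fiber t).Over
    (Spec (CommRingCat.of ((Spec (CommRingCat.of A)).residueField t))) :=
    ⟨(Y ↘ Spec (CommRingCat.of A)).fiberToSpecResidueField t⟩
  have hp : IsPullback ((Y ↘ Spec (CommRingCat.of A)).fiberι t)
      (((Y ↘ Spec (CommRingCat.of A)).fiber t) ↘
        Spec (CommRingCat.of ((Spec (CommRingCat.of A)).residueField t)))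
      (Y ↘ Spec (CommRingCat.of A))
      ((Spec (CommRingCat.of A)).fromSpecResidueField t) := IsPullback.of_hasPullback _ _
  haveI : IsProper (((Y ↘ Spec (CommRingCat.of A)).fiber t) ↘
        Spec (CommRingCat.of ((Spec (CommRingCat.of A)).residueField t))) :=
    MorphismProperty.of_isPullback hp inferInstance
  exact K967.OmegaBasic.isCoh ((Spec (CommRingCat.of A)).residueField t)
    ((Y ↘ Spec (CommRingCat.of A)).fiber t) d ωt hωt
    (K967.ReflUnit.dim_fiber_le (K968.Compare2.hasRelDim_bc hp hd))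

/-- Over the Gorenstein locus the restriction of `ω` to the fibre is the dualizing sheaf of the fibre. -/
theorem nonempty_restrict_fibre [Flat (Y ↘ Spec (CommRingCat.of A))] {ω : Y.Modules}
    (hω : RelCanon.IsDualizingSheaf A Y d ω)
    (Yo : Y.Opens) (hYo : ∀ y ∈ Yo, y ∈ RelCanon.gorLocus (Y ↘ Spec (CommRingCat.of A))) :
    Nonempty (((Scheme.Modules.pullback ((Y ↘ Spec (CommRingCat.of A)).fiberι t)).obj ω).restrict
        (((Y ↘ Spec (CommRingCat.of A)).fiberι t) ⁻¹ᵁ Yo).ι ≅
      ωt.restrict (((Y ↘ Spec (CommRingCat.of A)).fiberι t) ⁻¹ᵁ Yo).ι) := by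
  haveI : IsNoetherianRing (CommRingCat.of A) := inferInstanceAs (IsNoetherianRing A)
  haveI : IsLocallyNoetherian Y :=
    LocallyOfFiniteType.isLocallyNoetherian (Y ↘ Spec (CommRingCat.of A))
  letI : ((Y ↘ Spec (CommRingCat.of A)).fiber t).Over
    (Spec (CommRingCat.of ((Spec (CommRingCat.of A)).residueField t))) :=
    ⟨(Y ↘ Spec (CommRingCat.of A)).fiberToSpecResidueField t⟩
  have hp : IsPullback ((Y ↘ Spec (CommRingCat.of A)).fiberι t)
      (((Y ↘ Spec (CommRingCat.of A)).fiber t) ↘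
        Spec (CommRingCat.of ((Spec (CommRingCat.of A)).residueField t)))
      (Y ↘ Spec (CommRingCat.of A))
      ((Spec (CommRingCat.of A)).fromSpecResidueField t) := IsPullback.of_hasPullback _ _
  obtain ⟨e⟩ := K968.Compare4.nonempty_restrict_iso A hd hω
    ((Spec (CommRingCat.of A)).residueField t) hp hωt (j := Yo.ι)
    (j' := (((Y ↘ Spec (CommRingCat.of A)).fiberι t) ⁻¹ᵁ Yo).ι)
    (pV := ((Y ↘ Spec (CommRingCat.of A)).fiberι t) ∣_ Yo)
    (isPullback_morphismRestrict _ _)
    (fun x => Dual.H373.Core.isCMAt_of_isGorensteinAt _ _ (hYo _ x.2))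
  exact ⟨FormalA.PullbackQC.restrictPullbackIso _ Yo ω ≪≫ e.symm⟩

end K66.OmegaFib
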