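import Groth.Agent.QGor.K66.StalkOff
import Groth.Agent.QGor.K970.InvAt
import Groth.Agent.QGor.K966.SerreBasic
import Groth.Agent.Ega4A.FlatAtPrime

/-!
# Depth from Serre's condition for modules invertible off a closed subset

* `le_idealDepth_ring_iff`: depth of the local ring along the complement of an open subset;
* `support_eq_univ`: the stalk of a module invertible on `U` has full support if the local ring has depth at least
  one along the complement of `U`;
* `le_depth_of_skAt`.
-/

set_option autoImplicit false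
set_option linter.style.haveILetI false
universe u

open AlgebraicGeometry CategoryTheory Limits IsLocalRing TopologicalSpace

namespace K66.SkFull

open Groth.Agent Groth.Agent.CycB.LocQuot K66.StalkOff

variable {X : Scheme.{u}} [IsLocallyNoetherian X]

/-- Depth of the local ring along an ideal. -/
theorem le_idealDepth_ring_iff' (x : X) (J : Ideal (X.presheaf.stalk x)) (n : ℕ) :
    (n : ℕ∞) ≤ LocCoh.idealDepth J (X.presheaf.stalk x) ↔
      ∀ (z : X) (h : z ⤳ x), J ≤ (primeOf h).asIdeal →
        (n : ℕ∞) ≤ LocCoh.depth (X.presheaf.stalk z) (X.presheaf.stalk z) := by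
  have h := le_idealDepth_iff (Coh.structureModule X) (Fdesc.StructMod.isCoh_structureModule X) J n
  rw [Localalg.Depth.idealDepth_congr_equiv _ (Fdesc.StructMod.stalkEquiv x).symm] at h
  rw [h]
  refine forall_congr' fun z => forall_congr' fun _ => forall_congr' fun _ => ?_
  have h1 : LocCoh.depth (X.presheaf.stalk z) ((Coh.structureModule X).presheaf.stalk z) =
      LocCoh.depth (X.presheaf.stalk z) (X.presheaf.stalk z) :=
    Localalg.Depth.idealDepth_congr_equiv _ (Fdesc.StructMod.stalkEquiv z).symm
  rw [h1]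

/-- Depth of the local ring along the complement of an open subset. -/
theorem le_idealDepth_ring_iff (U : X.Opens) (x : X) (n : ℕ) :
    (n : ℕ∞) ≤ LocCoh.idealDepth (offIdeal U x) (X.presheaf.stalk x) ↔
      ∀ z : X, z ⤳ x → z ∉ U →
        (n : ℕ∞) ≤ LocCoh.depth (X.presheaf.stalk z) (X.presheaf.stalk z) := by
  rw [le_idealDepth_ring_iff']
  refine forall_congr' fun z => forall_congr' fun h => ?_
  rw [offIdeal_le_primeOf_iff]

/-- The stalk of a module invertible on `U` has full support. -/
theorem support_eq_univ (N : X.Modules) (hN : Coh.IsCoh N) (U : X.Opens) (x : X)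
    (hinv : ∀ z ∈ U, z ⤳ x → RelCanon.InvertibleAt N z)
    (h1 : 1 ≤ LocCoh.idealDepth (offIdeal U x) (X.presheaf.stalk x)) :
    Module.support (X.presheaf.stalk x) (N.presheaf.stalk x) = Set.univ := by
  rw [Set.eq_univ_iff_forall]
  intro P
  obtain ⟨Q, hQ, hQP⟩ := Ideal.exists_minimalPrimes_le (I := ⊥) (J := P.asIdeal) bot_le
  haveI : Q.IsPrime := hQ.1.1
  have hann : Module.annihilator (X.presheaf.stalk x) (X.presheaf.stalk x) = ⊥ :=
    Module.annihilator_eq_bot.mpr
      ((faithfulSMul_iff_algebraMap_injective _ _).mpr fun {a₁ a₂} a ↦ a)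
  have hass : Q ∈ associatedPrimes (X.presheaf.stalk x) (X.presheaf.stalk x) := by
    refine Module.associatedPrimes.minimalPrimes_annihilator_subset_associatedPrimes _ _ ?_
    rw [hann]
    exact hQ
  rw [K966.DepthLocal.one_le_idealDepth_iff_ass] at h1
  have h2 := h1 Q hass
  let Q' : PrimeSpectrum (X.presheaf.stalk x) := ⟨Q, inferInstance⟩
  have h3 : ptOf Q' ∈ U := by
    by_contra hc
    exact h2 ((offIdeal_le_iff U x Q').mpr hc)
  obtain ⟨σ, e, -, -, he⟩ := exists_loc_equiv N hN.1 (ptOf_specializes Q')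
  rw [primeOf_ptOf] at σ e
  refine Module.mem_support_mono (p := Q') hQP ?_
  obtain ⟨r⟩ := K970.InvAt.nonempty_stalk_equiv (ptOf Q') (hinv _ h3 (ptOf_specializes Q'))
  have : Nontrivial (N.presheaf.stalk (ptOf Q')) := r.symm.toEquiv.nontrivial
  exact e.toEquiv.nontrivial

/-- Depth from Serre's condition. -/
theorem le_depth_of_skAt (N : X.Modules) (hN : Coh.IsCoh N) (U : X.Opens) (x : X) (k : ℕ)
    (hinv : ∀ z ∈ U, z ⤳ x → RelCanon.InvertibleAt N z)
    (h1 : 1 ≤ LocCoh.idealDepth (offIdeal U x) (X.presheaf.stalk x))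
    (hS : RelCanon.SkAt k N x) (hdim : (k : WithBot ℕ∞) ≤ ringKrullDim (X.presheaf.stalk x)) :
    (k : ℕ∞) ≤ LocCoh.depth (X.presheaf.stalk x) (N.presheaf.stalk x) := by
  have h2 := Ega4A.FlatAtPrime.le_depth_of_hasSk _ k hS
  have h3 : Module.supportDim (X.presheaf.stalk x) (N.presheaf.stalk x) =
      ringKrullDim (X.presheaf.stalk x) := by
    refine le_antisymm (Module.supportDim_le_ringKrullDim _ _) ?_
    rw [← Module.supportDim_self_eq_ringKrullDim]
    refine K966.SerreBasic.supportDim_mono ?_
    rw [support_eq_univ N hN U x hinv h1]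
    exact Set.subset_univ _
  rw [h3, min_eq_left hdim] at h2
  exact WithBot.coe_le_coe.mp h2

end K66.SkFull
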