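import Groth.Agent.QGor.K66.Fibre
import Groth.Agent.QGor.K66.H2Crit
import Groth.Agent.QGor.K66.SkFull
import Groth.Agent.FormalA.PullbackQC

/-!
# Relative `(S₂)` of a reflexive module from `(S₃)` of a comparison module on the fibre
-/

set_option autoImplicit false
set_option linter.style.haveILetI false
universe u

open AlgebraicGeometry CategoryTheory Limits IsLocalRing TopologicalSpace RefHull

namespace K66.S3Crit

open Groth.Agent Groth.Agent.CycB.LocQuot K66.StalkOff K66.FlatOff K66.Core K970.RelSk1 K66.SkFull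
  Groth.Agent.Flat2D.FiberStalk Groth.Agent.Dcoh.StalkRestrict Groth.Agent.Fdesc.PullbackStalk

section Free

variable {X : Scheme.{u}}

/-- The localization of a stalk at the prime of a point where the module is invertible is free. -/
theorem free_localized (F : X.Modules) (hF : Coh.IsQCoh F) {x ξ : X} (h : ξ ⤳ x)
    (hξ : RelCanon.InvertibleAt F ξ) :
    Module.Free (Localization.AtPrime (primeOf h).asIdeal)
      (LocalizedModule (primeOf h).asIdeal.primeCompl (F.presheaf.stalk x)) := by
  obtain ⟨σ, e, -, -, he⟩ := exists_loc_equiv F hF h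
  haveI := K970.InvAt.free_stalk ξ hξ
  haveI := RingHomInvPair.of_ringEquiv σ
  haveI := RingHomInvPair.symm (σ : Localization.AtPrime (primeOf h).asIdeal →+* X.presheaf.stalk ξ)
    (σ.symm : X.presheaf.stalk ξ →+* Localization.AtPrime (primeOf h).asIdeal)
  let e' : LocalizedModule (primeOf h).asIdeal.primeCompl (F.presheaf.stalk x)
      ≃ₛₗ[(σ : Localization.AtPrime (primeOf h).asIdeal →+* X.presheaf.stalk ξ)]
      F.presheaf.stalk ξ := { e with map_smul' := he }
  exact Module.Free.of_equiv e'.symm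

theorem free_of_off (F : X.Modules) (hF : Coh.IsQCoh F) (U : X.Opens) (x : X)
    (hinv : ∀ z ∈ U, z ⤳ x → RelCanon.InvertibleAt F z)
    (q : PrimeSpectrum (X.presheaf.stalk x)) (hq : ¬ offIdeal U x ≤ q.asIdeal) :
    Module.Free (Localization.AtPrime q.asIdeal)
      (LocalizedModule q.asIdeal.primeCompl (F.presheaf.stalk x)) := by
  rw [offIdeal_le_iff, not_not] at hq
  have h := free_localized F hF (ptOf_specializes q) (hinv _ hq (ptOf_specializes q))
  rw [primeOf_ptOf] at h
  exact h

/-- A coherent module invertible on `U` with depth at least two outside `U` has a reflexive stalk. -/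
theorem isReflexive_stalk [IsLocallyNoetherian X] (F : X.Modules) (hF : Coh.IsCoh F) (U : X.Opens) (x : X)
    (hinv : ∀ z ∈ U, z ⤳ x → RelCanon.InvertibleAt F z)
    (h1 : ∀ z : X, z ⤳ x → z ∉ U → 1 ≤ LocCoh.depth (X.presheaf.stalk z) (X.presheaf.stalk z))
    (h2 : ∀ z : X, z ⤳ x → z ∉ U → 2 ≤ LocCoh.depth (X.presheaf.stalk z) (F.presheaf.stalk z)) :
    Module.IsReflexive (X.presheaf.stalk x) (F.presheaf.stalk x) := by
  haveI : Module.Finite (X.presheaf.stalk x) (F.presheaf.stalk x) := Divis.StalkMod.finite_stalk hF x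
  refine K966.BijOff.isReflexive_of_idealDepth_two (offIdeal U x)
    ((le_idealDepth_ring_iff U x 1).mpr h1) _ (fun q hq => ?_)
    ((le_idealDepth_offIdeal_iff F hF U x 2).mpr h2)
  haveI := free_of_off F hF.1 U x hinv q hq
  infer_instance

end Free

section Main

variable {X S : Scheme.{u}} (f : X ⟶ S) [IsLocallyNoetherian X] [IsLocallyNoetherian S]

/-- Relative `(S₂)` from `(S₃)`. -/
theorem relSkAt_of_hasSk_three (hS : RelCanon.IsSkMor f 2) (U : X.Opens) (s : S) (z : f.fiber s)
    (hcod : ∀ z' : X, z' ∉ U →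
      (2 : WithBot ℕ∞) ≤ ringKrullDim ((f.fiber (f z')).presheaf.stalk (f.asFiber z')))
    (hdim : ∀ z' : f.fiber s, f.fiberι s z' ∉ U →
      (3 : WithBot ℕ∞) ≤ ringKrullDim ((f.fiber s).presheaf.stalk z'))
    (G : X.Modules) (L : X.Modules) (hL : Coh.IsCoh L) (hG : G = dual L)
    (hGinv : ∀ z ∈ U, RelCanon.InvertibleAt G z)
    (N : (f.fiber s).Modules) (hN : Coh.IsCoh N)
    (hNinv : ∀ z', f.fiberι s z' ∈ U → RelCanon.InvertibleAt N z')
    (h3 : RelCanon.HasSk 3 N)
    (α : ((Scheme.Modules.pullback (f.fiberι s)).obj G).restrict ((f.fiberι s) ⁻¹ᵁ U).ι ≅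
      N.restrict ((f.fiberι s) ⁻¹ᵁ U).ι) :
    RelCanon.RelSkAt f 2 G (f.fiberι s z) := by
  haveI := hS.1
  haveI := hS.2.1
  haveI := Fibre.isLocallyNoetherian_fiber f s
  set i := f.fiberι s with hi
  set Us : (f.fiber s).Opens := i ⁻¹ᵁ U with hUs
  have hGc : Coh.IsCoh G := by rw [hG]; exact K476.HomSh4.isCoh_dual hL
  have hiG : Coh.IsCoh ((Scheme.Modules.pullback i).obj G) := FormalA.PullbackQC.isCoh_pullback i G hGc
  -- depth of the fibre off `Us`
  have hd2 : ∀ z' : f.fiber s, z' ∉ Us →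
      2 ≤ LocCoh.depth ((f.fiber s).presheaf.stalk z') ((f.fiber s).presheaf.stalk z') := by
    intro z' hz'
    refine Fibre.le_depth_fiber f hS s z' ?_
    rw [Fibre.ringKrullDim_fiber]
    exact le_trans (by norm_num) (hdim z' hz')
  -- depth of `N` off `Us`
  have hd3 : ∀ z' : f.fiber s, z' ∉ Us →
      3 ≤ LocCoh.depth ((f.fiber s).presheaf.stalk z') (N.presheaf.stalk z') := by
    intro z' hz'
    exact le_depth_of_skAt N hN Us z' 3 (fun w hw _ => hNinv w hw)
      ((le_idealDepth_ring_iff Us z' 1).mpr fun w _ hw => le_trans (by norm_num) (hd2 w hw))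
      (h3 z') (hdim z' hz')
  obtain ⟨β, hβ⟩ := Dual.H375.Hartogs.exists_extend hN Us
    (fun w hw => le_trans (by norm_num) (hd3 w hw)) α.hom
  have hβU : ∀ w ∈ Us, Function.Bijective (stalkMapₗ β w) := by
    intro w hw
    have h1 := bijective_restrict_iff Us.ι β ⟨w, hw⟩
    rw [hβ] at h1
    exact h1.mp (K476.HomSh4.bijective_stalkMapₗ_of_isIso _ _)
  -- the stalks
  set y := i z with hy
  letI iA : Algebra (S.presheaf.stalk (f y)) (X.presheaf.stalk y) := (f.stalkMap y).hom.toAlgebra
  letI iG := FlatMod.moduleStalkOver f G y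
  haveI : IsScalarTower (S.presheaf.stalk (f y)) (X.presheaf.stalk y) (G.presheaf.stalk y) :=
      IsScalarTower.of_algebraMap_smul fun r m => rfl
  haveI : Module.Finite (X.presheaf.stalk y) (G.presheaf.stalk y) := Divis.StalkMod.finite_stalk hGc y
  haveI : IsLocalHom (algebraMap (S.presheaf.stalk (f y)) (X.presheaf.stalk y)) :=
    inferInstanceAs (IsLocalHom (f.stalkMap y).hom)
  haveI : Module.Flat (S.presheaf.stalk (f y)) (X.presheaf.stalk y) := Flat.stalkMap f y
  letI := stalkAlg i z
  letI := FlatMod.moduleStalkOver i ((Scheme.Modules.pullback i).obj G) z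
  haveI := isScalarTower i ((Scheme.Modules.pullback i).obj G) z
  letI iN := FlatMod.moduleStalkOver i N z
  obtain ⟨e, he⟩ := exists_quot_equiv (can i G z) (isBaseChange_can i G z)
    (stalkMap_fiberι_surjective f s z) (fibreIdeal f y) (ker_stalkMap_fiberι f s z)
  haveI : IsScalarTower (X.presheaf.stalk y) ((f.fiber s).presheaf.stalk z) (N.presheaf.stalk z) :=
    isScalarTower i N z
  set φ : X.presheaf.stalk y →+* (f.fiber s).presheaf.stalk z := (i.stalkMap z).hom with hφ
  have hφs : Function.Surjective φ := stalkMap_fiberι_surjective f s z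
  haveI : Module.Finite ((f.fiber s).presheaf.stalk z) (N.presheaf.stalk z) :=
    Divis.StalkMod.finite_stalk hN z
  haveI : Module.Finite ((f.fiber s).presheaf.stalk z) (((Scheme.Modules.pullback i).obj G).presheaf.stalk z) :=
    Divis.StalkMod.finite_stalk hiG z
  haveI : Module.Finite (X.presheaf.stalk y) ((f.fiber s).presheaf.stalk z) :=
    Module.Finite.of_surjective (Algebra.linearMap (X.presheaf.stalk y) ((f.fiber s).presheaf.stalk z)) hφs
  haveI : Module.Finite (X.presheaf.stalk y) (N.presheaf.stalk z) :=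
    Module.Finite.trans ((f.fiber s).presheaf.stalk z) _
  haveI : Module.IsReflexive (X.presheaf.stalk y) (G.presheaf.stalk y) := by
    have hX : ∀ z' : X, z' ∉ U → 2 ≤ LocCoh.depth (X.presheaf.stalk z') (X.presheaf.stalk z') :=
      fun z' hz' => K967.FibDepth.two_le_depth_stalk f hS z' (hcod z' hz')
    refine isReflexive_stalk G hGc U y (fun w hw _ => hGinv w hw)
      (fun w _ hw => le_trans (by norm_num) (hX w hw)) (fun w _ hw => ?_)
    rw [hG]
    exact two_le_depth_dual hL w (hX w hw)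
  set J := offIdeal U y with hJ
  have hJφ : ∀ (w : f.fiber s) (h : w ⤳ z), J.map φ ≤ (primeOf h).asIdeal ↔ i w ∉ U := by
    intro w h
    rw [Ideal.map_le_iff_le_comap, hφ, comap_primeOf, hJ, offIdeal_le_primeOf_iff]
  let ψ₁ := stalkMapₗ β z
  have hloc : ∀ q : PrimeSpectrum ((f.fiber s).presheaf.stalk z), ¬ J.map φ ≤ q.asIdeal →
      Function.Bijective (LocalizedModule.map q.asIdeal.primeCompl ψ₁) := by
    intro q hq
    have hw : ptOf q ∈ Us := by
      by_contra hc
      apply hq
      have h5 := hJφ (ptOf q) (ptOf_specializes q)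
      rw [primeOf_ptOf] at h5
      exact h5.mpr hc
    have h := bijective_localized hiG.1 hN.1 (ptOf_specializes q) ψ₁ (stalkMapₗ β (ptOf q))
      (fun m => K476.RefPow1.stalkMapₗ_specializes β _ m) (hβU _ hw)
    rw [primeOf_ptOf] at h
    exact h
  let ψ : FibStalk f G y →ₗ[X.presheaf.stalk y] N.presheaf.stalk z :=
    { toFun := fun m => ψ₁ (e m)
      map_add' := fun a b => by rw [map_add, map_add]
      map_smul' := fun r m => by
        rw [he, map_smul]
        rfl }
  obtain ⟨hK, hQ⟩ := H2Crit.isPowerTorsion_semilinear J φ ψ₁ ψ e he (AddEquiv.refl _)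
    (fun r m => rfl) (fun m => rfl) (H2Crit.isPowerTorsion_ker (J.map φ) ψ₁ hloc)
    (H2Crit.isPowerTorsion_coker (J.map φ) ψ₁ hloc)
  have hN3 : 3 ≤ LocCoh.idealDepth J (N.presheaf.stalk z) := by
    rw [Ega4A.DepthBasic.idealDepth_congr_of_surjective φ hφs J (N.presheaf.stalk z)
      (N.presheaf.stalk z) (AddEquiv.refl _) (fun r m => rfl)]
    exact (le_idealDepth_iff N hN (J.map φ) 3).mpr fun w h hw => hd3 w ((hJφ w h).mp hw)
  have hB : 2 ≤ LocCoh.idealDepth J (X.presheaf.stalk y ⧸ fibreIdeal f y) := by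
    let eR : (X.presheaf.stalk y ⧸ fibreIdeal f y) ≃+* (f.fiber s).presheaf.stalk z :=
      (Ideal.quotEquivOfEq (ker_stalkMap_fiberι f s z).symm).trans
        (RingHom.quotientKerEquivOfSurjective (stalkMap_fiberι_surjective f s z))
    rw [Ega4A.DepthBasic.idealDepth_congr_of_surjective φ hφs J
      (X.presheaf.stalk y ⧸ fibreIdeal f y) ((f.fiber s).presheaf.stalk z) eR.toAddEquiv (by
        intro r m
        obtain ⟨m, rfl⟩ := Ideal.Quotient.mk_surjective m
        change eR (Ideal.Quotient.mk _ (r * m)) = φ r * eR (Ideal.Quotient.mk _ m)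
        rw [map_mul, map_mul]
        rfl)]
    exact (le_idealDepth_ring_iff' z (J.map φ) 2).mpr fun w h hw => hd2 w ((hJφ w h).mp hw)
  obtain ⟨hflat, hdep⟩ := H2Crit.flat_of_map (A := S.presheaf.stalk (f y)) J (G.presheaf.stalk y)
    (fun q hq => free_of_off G hGc.1 U y (fun w hw _ => hGinv w hw) q hq) hB (N.presheaf.stalk z)
    hN3 ψ hK hQ
  have hb : Function.Bijective ψ₁ := by
    refine bijective_of_off hiG hN Us z β (fun w hw _ => hβU w hw) ?_ ?_
    · refine (le_idealDepth_offIdeal_iff _ hiG Us z 2).mpr ?_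
      exact (le_idealDepth_fibStalk_iff f G U s z hiG 2).mp hdep
    · exact (le_idealDepth_offIdeal_iff N hN Us z 1).mpr
        fun w _ hw => le_trans (by norm_num) (hd3 w hw)
  rw [relSkAt_iff]
  refine ⟨hflat, (skAt_fiber_iff f 2 G s z).mp ?_⟩
  exact skAt_of_equiv 2 z (LinearEquiv.ofBijective ψ₁ hb).symm
    (K966.SerreBasic.hasSk_mono (by norm_num) (h3 z))

end Main

end K66.S3Crit
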