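import Groth.Agent.QGor.K970.RelSk1
import Groth.Agent.QGor.K966.BijOff
import Groth.Agent.QGor.K966.FibFlat
import Groth.Agent.CycB.StalkLoc
import Groth.Agent.SDiv.K476.RefPow1
import Groth.Agent.Ega4B.LocTransfer
import Groth.Agent.Ega4A.DepthBasic

/-!
# Stalks off a closed subset

For an open `U` of a scheme `X` and `x : X`: the ideal `offIdeal U x` of `O_{X,x}` which defines the complement of
`U`, the depth of stalks along it, localizations of stalk maps.
-/

set_option autoImplicit false
set_option linter.style.haveILetI false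
universe u

open AlgebraicGeometry CategoryTheory Limits IsLocalRing TopologicalSpace

namespace K66.StalkOff

open Groth.Agent Groth.Agent.CycB.LocQuot Groth.Agent.CycB.StalkLoc

section Basic

variable {X : Scheme.{u}}

/-- The radical ideal of `O_{X,x}` which defines the complement of `U`. -/
noncomputable def offIdeal (U : X.Opens) (x : X) : Ideal (X.presheaf.stalk x) :=
  PrimeSpectrum.vanishingIdeal ((X.fromSpecStalk x) ⁻¹' (U : Set X)ᶜ)

theorem offIdeal_le_iff (U : X.Opens) (x : X) (P : PrimeSpectrum (X.presheaf.stalk x)) :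
    offIdeal U x ≤ P.asIdeal ↔ ptOf P ∉ U := by
  have hc : IsClosed ((X.fromSpecStalk x) ⁻¹' (U : Set X)ᶜ) :=
    (U.isOpen.isClosed_compl).preimage (X.fromSpecStalk x).continuous
  have h1 : P ∈ PrimeSpectrum.zeroLocus (offIdeal U x : Set (X.presheaf.stalk x)) ↔
      P ∈ ((X.fromSpecStalk x) ⁻¹' (U : Set X)ᶜ : Set (Spec (X.presheaf.stalk x))) := by
    rw [offIdeal, PrimeSpectrum.zeroLocus_vanishingIdeal_eq_closure]
    exact Set.ext_iff.mp hc.closure_eq P
  exact h1

theorem offIdeal_le_primeOf_iff (U : X.Opens) {x ξ : X} (h : ξ ⤳ x) :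
    offIdeal U x ≤ (primeOf h).asIdeal ↔ ξ ∉ U := by
  rw [offIdeal_le_iff, ptOf_primeOf]

/-- Primes of the local ring are generizations. -/
theorem forall_prime_iff {x : X} {p : PrimeSpectrum (X.presheaf.stalk x) → Prop} :
    (∀ P, p P) ↔ ∀ (ξ : X) (h : ξ ⤳ x), p (primeOf h) := by
  refine ⟨fun h ξ hξ => h _, fun h P => ?_⟩
  have := h (ptOf P) (ptOf_specializes P)
  rwa [primeOf_ptOf] at this

end Basic

section Loc

variable {X : Scheme.{u}}

/-- The localization of a stalk at the prime of a generization is the stalk there. -/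
theorem exists_loc_equiv (F : X.Modules) (hF : Coh.IsQCoh F) {x ξ : X} (h : ξ ⤳ x) :
    ∃ (σ : Localization.AtPrime (primeOf h).asIdeal ≃+* X.presheaf.stalk ξ)
      (e : LocalizedModule (primeOf h).asIdeal.primeCompl (F.presheaf.stalk x) ≃+
        F.presheaf.stalk ξ),
      (∀ r, σ (algebraMap _ _ r) = (X.presheaf.stalkSpecializes h).hom r) ∧
      (∀ m, e (LocalizedModule.mkLinearMap _ _ m) = F.presheaf.stalkSpecializes h m) ∧
      ∀ r m, e (r • m) = σ r • e m := by
  letI := specAlg h
  letI := specMod F h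
  haveI := CycB.StalkLoc.isScalarTower F h
  have h1 : (primeOf h).asIdeal = RingHom.ker (Cyc.specMap x ξ h) := primeOf_asIdeal h
  haveI hl : IsLocalization.AtPrime (X.presheaf.stalk ξ) (primeOf h).asIdeal := by
    have := isLocalization_stalkSpecializes h
    rw [IsLocalization.AtPrime] at this ⊢
    convert this using 2
  haveI hm : IsLocalizedModule (primeOf h).asIdeal.primeCompl (specLin F h) := by
    have := isLocalizedModule_specLin F hF h
    convert this using 2
  let σ : Localization.AtPrime (primeOf h).asIdeal ≃ₐ[X.presheaf.stalk x] X.presheaf.stalk ξ :=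
    IsLocalization.algEquiv (primeOf h).asIdeal.primeCompl _ _
  let e : LocalizedModule (primeOf h).asIdeal.primeCompl (F.presheaf.stalk x) ≃ₗ[X.presheaf.stalk x]
      F.presheaf.stalk ξ :=
    IsLocalizedModule.iso (primeOf h).asIdeal.primeCompl (specLin F h)
  refine ⟨σ.toRingEquiv, e.toAddEquiv, fun r => σ.commutes r, fun m => ?_, fun r m => ?_⟩
  · exact IsLocalizedModule.iso_mk_one (primeOf h).asIdeal.primeCompl (specLin F h) m
  · exact Ega4B.LocTransfer.semilinear_of_linear (primeOf h).asIdeal.primeCompl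
      (σ : Localization.AtPrime (primeOf h).asIdeal →+* X.presheaf.stalk ξ)
      (fun r => σ.commutes r) e.toLinearMap r m

/-- The depth of a stalk at a generization. -/
theorem depth_loc (F : X.Modules) (hF : Coh.IsQCoh F) {x ξ : X} (h : ξ ⤳ x) :
    LocCoh.depth (Localization.AtPrime (primeOf h).asIdeal)
      (LocalizedModule (primeOf h).asIdeal.primeCompl (F.presheaf.stalk x)) =
      LocCoh.depth (X.presheaf.stalk ξ) (F.presheaf.stalk ξ) := by
  obtain ⟨σ, e, -, -, he⟩ := exists_loc_equiv F hF h
  exact Ega4A.DepthBasic.depth_congr_of_surjective (σ : _ →+* _) σ.surjective _ _ e he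

/-- Depth along the complement of an open subset. -/
theorem le_idealDepth_iff [IsLocallyNoetherian X] (F : X.Modules) (hF : Coh.IsCoh F)
    {x : X} (J : Ideal (X.presheaf.stalk x)) (n : ℕ) :
    (n : ℕ∞) ≤ LocCoh.idealDepth J (F.presheaf.stalk x) ↔
      ∀ (z : X) (h : z ⤳ x), J ≤ (primeOf h).asIdeal →
        (n : ℕ∞) ≤ LocCoh.depth (X.presheaf.stalk z) (F.presheaf.stalk z) := by
  haveI : Module.Finite (X.presheaf.stalk x) (F.presheaf.stalk x) := Divis.StalkMod.finite_stalk hF x
  rw [K966.DepthLocal.le_idealDepth_iff_forall]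
  constructor
  · intro H z h hJ
    rw [← depth_loc F hF.1 h]
    exact H _ hJ
  · intro H P hP hJ
    have h := depth_loc F hF.1 (ptOf_specializes (⟨P, hP⟩ : PrimeSpectrum (X.presheaf.stalk x)))
    have H' := H (ptOf ⟨P, hP⟩) (ptOf_specializes _) (by rw [primeOf_ptOf]; exact hJ)
    rw [← h] at H'
    rw [primeOf_ptOf] at H'
    exact H'

theorem le_idealDepth_offIdeal_iff [IsLocallyNoetherian X] (F : X.Modules) (hF : Coh.IsCoh F)
    (U : X.Opens) (x : X) (n : ℕ) :
    (n : ℕ∞) ≤ LocCoh.idealDepth (offIdeal U x) (F.presheaf.stalk x) ↔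
      ∀ z : X, z ⤳ x → z ∉ U →
        (n : ℕ∞) ≤ LocCoh.depth (X.presheaf.stalk z) (F.presheaf.stalk z) := by
  rw [le_idealDepth_iff F hF]
  refine forall_congr' fun z => forall_congr' fun h => ?_
  rw [offIdeal_le_primeOf_iff]

/-- The localization of a linear map of stalks which is compatible with a bijection at a generization. -/
theorem bijective_localized {F G : X.Modules} (hF : Coh.IsQCoh F) (hG : Coh.IsQCoh G) {x ξ : X}
    (h : ξ ⤳ x)
    (a : F.presheaf.stalk x →ₗ[X.presheaf.stalk x] G.presheaf.stalk x)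
    (b : F.presheaf.stalk ξ →ₗ[X.presheaf.stalk ξ] G.presheaf.stalk ξ)
    (hab : ∀ m, b (F.presheaf.stalkSpecializes h m) = G.presheaf.stalkSpecializes h (a m))
    (hb : Function.Bijective b) :
    Function.Bijective (LocalizedModule.map (primeOf h).asIdeal.primeCompl a) := by
  obtain ⟨σ, e, hσ, he, hs⟩ := exists_loc_equiv F hF h
  obtain ⟨σ', e', hσ', he', hs'⟩ := exists_loc_equiv G hG h
  have key : ∀ x, e' (LocalizedModule.map (primeOf h).asIdeal.primeCompl a x) = b (e x) := by
    intro t
    obtain ⟨⟨m, s⟩, hm⟩ := IsLocalizedModule.surj (primeOf h).asIdeal.primeCompl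
      (LocalizedModule.mkLinearMap (primeOf h).asIdeal.primeCompl (F.presheaf.stalk x)) t
    have hm' : algebraMap (X.presheaf.stalk x) (Localization.AtPrime (primeOf h).asIdeal) s • t =
        LocalizedModule.mkLinearMap (primeOf h).asIdeal.primeCompl (F.presheaf.stalk x) m := by
      rw [algebraMap_smul]; exact hm
    have hu : IsUnit (σ (algebraMap _ _ (s : X.presheaf.stalk x))) :=
      (IsLocalization.map_units (Localization.AtPrime (primeOf h).asIdeal) s).map σ
    refine hu.smul_left_cancel.mp ?_
    rw [← map_smul b, ← hs, hm', he, hab]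
    have h1 : σ (algebraMap _ _ (s : X.presheaf.stalk x)) = σ' (algebraMap _ _ (s : X.presheaf.stalk x)) := by
      rw [hσ, hσ']
    rw [h1, ← hs', ← map_smul, hm']
    have h2 : LocalizedModule.map (primeOf h).asIdeal.primeCompl a
        (LocalizedModule.mkLinearMap (primeOf h).asIdeal.primeCompl (F.presheaf.stalk x) m) =
        LocalizedModule.mkLinearMap (primeOf h).asIdeal.primeCompl (G.presheaf.stalk x) (a m) := by
      rw [LocalizedModule.mkLinearMap_apply, LocalizedModule.mkLinearMap_apply]
      exact LocalizedModule.map_mk _ _ _ _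
    rw [h2, he']
  have h3 : ⇑(LocalizedModule.map (primeOf h).asIdeal.primeCompl a) = e'.symm ∘ b ∘ e := by
    funext t
    rw [Function.comp_apply, Function.comp_apply, ← key, AddEquiv.symm_apply_apply]
  rw [h3]
  exact e'.symm.bijective.comp (hb.comp e.bijective)

end Loc

end K66.StalkOff
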